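/-
Invertible modules on a scheme covered by disjoint open immersions.
-/
import Groth.Agent.L26.AbDual.Classes

open CategoryTheory CategoryTheory.Limits AlgebraicGeometry TopologicalSpace Opposite
open Groth.L18.Frame (rs ro rs_rs rs_self rs_smul ro_ro ro_self ro_mul pull pull_rs pull_smul IsFrame)
open Groth.L22.PicGlue (Cocycle glueMod gen gen_trans isGen_gen isInvertible_glueMod nonempty_iso_of_gens)

universe u

noncomputable section

namespace Groth.Agent.InvDescent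

set_option linter.style.haveILetI false

variable {Y Z : Scheme.{u}} (k : Z ⟶ Y) [IsOpenImmersion k]

/-- Transport of functions along an open immersion. -/
def tr (V : Z.Opens) (W : Y.Opens) (h : W ≤ k ''ᵁ V) (c : Γ(Z, V)) : Γ(Y, W) :=
  ro h ((k.appIso V).inv c)

theorem ro_tr {V : Z.Opens} {W W' : Y.Opens} (h : W ≤ k ''ᵁ V) (h' : W' ≤ W) (c : Γ(Z, V)) :
    ro h' (tr k V W h c) = tr k V W' (h'.trans h) c := ro_ro _ _ _

theorem tr_ro {V V' : Z.Opens} {W : Y.Opens} (h : W ≤ k ''ᵁ V') (hV : V' ≤ V) (c : Γ(Z, V)) :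
    tr k V' W h (ro hV c) = tr k V W (h.trans (k.image_mono hV)) c := by
  have e : (k.appIso V').inv (ro hV c) = ro (k.image_mono hV) ((k.appIso V).inv c) := by
    show (Z.presheaf.map (homOfLE hV).op ≫ (k.appIso V').inv) c = _
    rw [Scheme.Hom.appIso_inv_naturality]
    rfl
  rw [tr, e, ro_ro]
  exact rfl

theorem tr_mul {V : Z.Opens} {W : Y.Opens} (h : W ≤ k ''ᵁ V) (c d : Γ(Z, V)) :
    tr k V W h (c * d) = tr k V W h c * tr k V W h d := by
  simp only [tr, map_mul]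

theorem tr_one {V : Z.Opens} {W : Y.Opens} (h : W ≤ k ''ᵁ V) : tr k V W h 1 = 1 := by
  simp only [tr, ro, map_one]

theorem appLE_tr {V V' : Z.Opens} {W : Y.Opens} (h : W ≤ k ''ᵁ V) (e : V' ≤ k ⁻¹ᵁ W) (c : Γ(Z, V)) :
    k.appLE W V' e (tr k V W h c) = ro (e.trans ((k.preimage_mono h).trans (k.preimage_image_eq V).le)) c := by
  show ((k.appIso V).inv ≫ Y.presheaf.map (homOfLE h).op ≫ k.appLE W V' e) c = _
  rw [Scheme.Hom.map_appLE, Scheme.Hom.appIso_inv_appLE]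

variable {J : Type u} (ZJ : J → Scheme.{u}) (kJ : ∀ j, ZJ j ⟶ Y) [∀ j, IsOpenImmersion (kJ j)]

/-- Invertible modules on disjoint open pieces glue. -/
theorem exists_of_disjoint (hdis : ∀ i j, i ≠ j → ∀ a b, kJ i a ≠ kJ j b)
    (hcov : ∀ y : Y, ∃ j a, kJ j a = y) (L : ∀ j, (ZJ j).Modules) (hL : ∀ j, PicF.IsInvertible (L j)) :
    ∃ M : Y.Modules, PicF.IsInvertible M ∧
      ∀ j, Nonempty ((Scheme.Modules.pullback (kJ j)).obj M ≅ L j) := by
  choose W e hW he using fun (j : J) (a : ZJ j) => Groth.L18.Frame.exists_frame (hL j) a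
  choose c hc using fun (j : J) (a b : ZJ j) =>
    ((he j a).mono (inf_le_left : W j a ⊓ W j b ≤ W j a)).exists_coeff le_rfl (rs (L j) inf_le_right (e j b))
  simp only [rs_self] at hc
  have hcV : ∀ (j : J) (a b : ZJ j) (V : (ZJ j).Opens) (ha : V ≤ W j a) (hb : V ≤ W j b),
      ro (le_inf ha hb) (c j a b) • rs (L j) ha (e j a) = rs (L j) hb (e j b) := by
    intro j a b V ha hb
    have := congrArg (rs (L j) (le_inf ha hb)) (hc j a b)
    rwa [rs_smul, rs_rs, rs_rs] at this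
  have hmul : ∀ (j : J) (a b d : ZJ j) (V : (ZJ j).Opens) (ha : V ≤ W j a) (hb : V ≤ W j b) (hd : V ≤ W j d),
      ro (le_inf ha hb) (c j a b) * ro (le_inf hb hd) (c j b d) = ro (le_inf ha hd) (c j a d) := by
    intro j a b d V ha hb hd
    refine (he j a).inj ha ?_
    rw [mul_comm, mul_smul, hcV j a b V ha hb, hcV j b d V hb hd, hcV j a d V ha hd]
  have him : ∀ (j : J) (a b : ZJ j), kJ j ''ᵁ W j a ⊓ kJ j ''ᵁ W j b ≤ kJ j ''ᵁ (W j a ⊓ W j b) := fun j a b => by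
    rintro y ⟨⟨z, hz, rfl⟩, ⟨z', hz', hzz⟩⟩
    obtain rfl := (kJ j).isOpenEmbedding.injective hzz
    exact ⟨z', ⟨hz, hz'⟩, rfl⟩
  let N : (Σ j, ZJ j) → Y.Opens := fun p => kJ p.1 ''ᵁ W p.1 p.2
  let g : ∀ p q : Σ j, ZJ j, Γ(Y, N p ⊓ N q) := fun ⟨i, a⟩ ⟨j, b⟩ => by
    classical
    exact if h : i = j then by subst h; exact tr (kJ i) (W i a ⊓ W i b) _ (him i a b) (c i a b) else 1
  have hg : ∀ (i : J) (a b : ZJ i), g ⟨i, a⟩ ⟨i, b⟩ = tr (kJ i) (W i a ⊓ W i b) _ (him i a b) (c i a b) :=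
    fun i a b => dif_pos rfl
  have hbot : ∀ (i j : J) (a : ZJ i) (b : ZJ j) (V : Y.Opens), i ≠ j → V ≤ N ⟨i, a⟩ → V ≤ N ⟨j, b⟩ →
      Subsingleton Γ(Y, V) := by
    intro i j a b V hij h1 h2
    obtain rfl : V = ⊥ := eq_bot_iff.2 fun y hy => by
      obtain ⟨z, -, rfl⟩ := h1 hy
      obtain ⟨z', -, hz'⟩ := h2 hy
      exact absurd hz'.symm (hdis i j hij z z')
    exact inferInstanceAs (Subsingleton Γ(Y, (⊥ : Y.Opens)))
  let C : Cocycle Y :=
    { ι := Σ j, ZJ j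
      N := N
      g := g
      one := by
        rintro ⟨i, a⟩
        rw [hg, ← tr_one (kJ i) (him i a a)]
        congr 1
        refine (he i a).inj inf_le_left ?_
        rw [one_smul]
        have := hcV i a a _ (inf_le_left : W i a ⊓ W i a ≤ W i a) inf_le_left
        rwa [ro_self] at this
      comp := by
        rintro ⟨i, a⟩ ⟨j, b⟩ ⟨l, d⟩
        by_cases hij : i = j
        · subst hij
          by_cases hil : i = l
          · subst hil
            rw [hg, hg, hg]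
            show ro _ (tr _ _ _ _ _) * ro _ (tr _ _ _ _ _) = ro _ (tr _ _ _ _ _)
            rw [ro_tr, ro_tr, ro_tr]
            have h0 : kJ i ''ᵁ W i a ⊓ kJ i ''ᵁ W i b ⊓ kJ i ''ᵁ W i d ≤ kJ i ''ᵁ (W i a ⊓ W i b ⊓ W i d) := by
              rintro y ⟨⟨⟨z, hz, rfl⟩, ⟨z', hz', h'⟩⟩, ⟨z'', hz'', h''⟩⟩
              obtain rfl := (kJ i).isOpenEmbedding.injective h'
              obtain rfl := (kJ i).isOpenEmbedding.injective h''
              exact ⟨z'', ⟨⟨hz, hz'⟩, hz''⟩, rfl⟩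
            rw [← tr_ro (kJ i) h0 inf_le_left (c i a b), ← tr_ro (kJ i) h0 (inf_le_inf_right _ inf_le_right) (c i b d),
              ← tr_ro (kJ i) h0 (inf_le_inf_right _ inf_le_left) (c i a d), ← tr_mul]
            congr 1
            exact hmul i a b d _ (inf_le_left.trans inf_le_left) (inf_le_left.trans inf_le_right) inf_le_right
          · haveI := hbot i l a d (N ⟨i, a⟩ ⊓ N ⟨i, b⟩ ⊓ N ⟨l, d⟩) hil (inf_le_left.trans inf_le_left) inf_le_right
            exact Subsingleton.elim _ _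
        · haveI := hbot i j a b (N ⟨i, a⟩ ⊓ N ⟨j, b⟩ ⊓ N ⟨l, d⟩) hij (inf_le_left.trans inf_le_left)
            (inf_le_left.trans inf_le_right)
          exact Subsingleton.elim _ _ }
  let M := glueMod C
  refine ⟨M, isInvertible_glueMod C fun y => ?_, fun j => ?_⟩
  · obtain ⟨j, a, rfl⟩ := hcov y
    exact ⟨⟨j, a⟩, a, hW j a, rfl⟩
  · have hle : ∀ a : ZJ j, W j a ≤ kJ j ⁻¹ᵁ C.N ⟨j, a⟩ := fun a => ((kJ j).preimage_image_eq (W j a)).ge
    let t : ∀ a : ZJ j, Γ((Scheme.Modules.pullback (kJ j)).obj M, W j a) := fun a =>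
      rs _ (hle a) (pull (kJ j) M _ (gen C ⟨j, a⟩))
    have ht : ∀ a, IsFrame ((Scheme.Modules.pullback (kJ j)).obj M) (W j a) (t a) := fun a =>
      (IsFrame.pullback (kJ j) M (show IsFrame M (C.N ⟨j, a⟩) (gen C ⟨j, a⟩) from isGen_gen C ⟨j, a⟩)).mono (hle a)
    refine nonempty_iso_of_gens (W j) (e := t) (e' := e j) ht (he j) (fun x => ⟨x, hW j x⟩) ?_
    intro a b V ha hb x hx
    have hh : V ≤ kJ j ⁻¹ᵁ (C.N ⟨j, a⟩ ⊓ C.N ⟨j, b⟩) := le_inf (ha.trans (hle a)) (hb.trans (hle b))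
    have h2 : rs ((Scheme.Modules.pullback (kJ j)).obj M) hh
        (pull (kJ j) M _ (rs M (inf_le_right : C.N ⟨j, a⟩ ⊓ C.N ⟨j, b⟩ ≤ _) (gen C ⟨j, b⟩))) =
      (kJ j).appLE _ V hh (g ⟨j, a⟩ ⟨j, b⟩) •
        rs ((Scheme.Modules.pullback (kJ j)).obj M) hh
          (pull (kJ j) M _ (rs M (inf_le_left : C.N ⟨j, a⟩ ⊓ C.N ⟨j, b⟩ ≤ _) (gen C ⟨j, a⟩))) := by
      rw [show rs M (inf_le_right : C.N ⟨j, a⟩ ⊓ C.N ⟨j, b⟩ ≤ _) (gen C ⟨j, b⟩) = _ from gen_trans C ⟨j, a⟩ ⟨j, b⟩,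
        pull_smul, rs_smul]
      rfl
    rw [← pull_rs, ← pull_rs, rs_rs, rs_rs, hg, appLE_tr] at h2
    have h3 : x = ro (le_inf ha hb) (c j a b) := by
      refine (ht a).inj ha ?_
      refine hx.trans ?_
      simp only [t, rs_rs]
      exact h2
    rw [h3]
    exact hcV j a b V ha hb

end Groth.Agent.InvDescent
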