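/-
Multiplicative one-cocycles of faithfully flat algebras are coboundaries locally on the base.
-/
import Groth.Agent.L19.ModDescent.Coaction
import Groth.Agent.L28.GmH1.Descent

set_option linter.style.haveILetI false

universe u

open TensorProduct

noncomputable section

namespace Groth.Agent.InvDescent

variable {R S : Type u} [CommRing R] [CommRing S] [Algebra R S]

variable (R S) in
/-- Omitting the last factor. -/
def d₁₂ : S ⊗[R] S →ₐ[R] S ⊗[R] (S ⊗[R] S) :=
  Algebra.TensorProduct.map (AlgHom.id R S) Algebra.TensorProduct.includeLeft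

variable (R S) in
/-- Omitting the middle factor. -/
def d₁₃ : S ⊗[R] S →ₐ[R] S ⊗[R] (S ⊗[R] S) :=
  Algebra.TensorProduct.map (AlgHom.id R S) Algebra.TensorProduct.includeRight

variable (R S) in
/-- Omitting the first factor. -/
def d₂₃ : S ⊗[R] S →ₐ[R] S ⊗[R] (S ⊗[R] S) :=
  Algebra.TensorProduct.includeRight

@[simp] theorem d₁₂_tmul (a b : S) : d₁₂ R S (a ⊗ₜ b) = a ⊗ₜ (b ⊗ₜ 1) := rfl

@[simp] theorem d₁₃_tmul (a b : S) : d₁₃ R S (a ⊗ₜ b) = a ⊗ₜ (1 ⊗ₜ b) := rfl

@[simp] theorem d₂₃_apply (t : S ⊗[R] S) : d₂₃ R S t = 1 ⊗ₜ t := rfl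

variable (u : (S ⊗[R] S)ˣ)

/-- The coaction defined by a unit. -/
def coact : S →ₗ[R] S ⊗[R] S :=
  (LinearMap.mulLeft R (u : S ⊗[R] S)).comp (Algebra.TensorProduct.includeLeft : S →ₐ[R] S ⊗[R] S).toLinearMap

theorem coact_apply (n : S) : coact u n = (u : S ⊗[R] S) * (n ⊗ₜ 1) := rfl

variable {u} (hu : d₂₃ R S u * d₁₂ R S u = d₁₃ R S u)

include hu in
theorem lmul_eq_one : Algebra.TensorProduct.lmul' R (u : S ⊗[R] S) = 1 := by
  let φ : S ⊗[R] S →ₐ[R] S := Algebra.TensorProduct.lmul' R
  let ψ : S ⊗[R] (S ⊗[R] S) →ₐ[R] S := φ.comp (Algebra.TensorProduct.map (AlgHom.id R S) φ)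
  have e1 : ∀ t, ψ (d₁₂ R S t) = φ t := fun t => by
    induction t using TensorProduct.induction_on with
    | zero => simp
    | tmul a b => simp [ψ, φ]
    | add a b ha hb => simp only [map_add, ha, hb]
  have e2 : ∀ t, ψ (d₂₃ R S t) = φ t := fun t => by simp [ψ, φ]
  have e3 : ∀ t, ψ (d₁₃ R S t) = φ t := fun t => by
    induction t using TensorProduct.induction_on with
    | zero => simp
    | tmul a b => simp [ψ, φ]
    | add a b ha hb => simp only [map_add, ha, hb]
  have h := congrArg ψ hu
  rw [map_mul, e1, e2, e3] at h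
  exact ((u.isUnit.map φ).mul_eq_left).1 h

include hu in
theorem bijective_fixed [Module.Flat R S] :
    Function.Bijective (LinearMap.liftBaseChange S (Groth.L19.ModDescent.fixed (coact u)).subtype) := by
  refine Groth.L19.ModDescent.bijective_of_coaction (coact u) (fun s n => ?_) (fun n => ?_) fun n => ?_
  · rw [coact_apply, coact_apply, ← mul_smul_comm, TensorProduct.smul_tmul']
  · have e : ∀ t : S ⊗[R] S, LinearMap.liftBaseChange S (LinearMap.id : S →ₗ[R] S) t =
        Algebra.TensorProduct.lmul' R t := fun t => by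
      induction t using TensorProduct.induction_on with
      | zero => simp
      | tmul a b => simp
      | add a b ha hb => simp only [map_add, ha, hb]
    rw [e, coact_apply, map_mul, lmul_eq_one hu]
    simp
  · have e1 : ∀ t : S ⊗[R] S, (coact u).lTensor S t = d₂₃ R S u * d₁₂ R S t := fun t => by
      induction t using TensorProduct.induction_on with
      | zero => simp
      | tmul a b => simp [coact_apply]
      | add a b ha hb => simp only [map_add, ha, hb, mul_add]
    have e2 : ∀ t : S ⊗[R] S, (TensorProduct.mk R S S 1).lTensor S t = d₁₃ R S t := fun t => by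
      induction t using TensorProduct.induction_on with
      | zero => simp
      | tmul a b => simp
      | add a b ha hb => simp only [map_add, ha, hb]
    rw [e1, e2, coact_apply, map_mul, map_mul, ← mul_assoc, hu]
    congr 1

include hu in
/-- Locally on the base the cocycle is a coboundary. -/
theorem exists_coboundary [Module.FaithfullyFlat R S] (q : Ideal R) [q.IsPrime] :
    ∃ (m b : S) (f : R), f ∉ q ∧ m * b = algebraMap R S f ∧
      (1 : S) ⊗ₜ[R] m = (u : S ⊗[R] S) * (m ⊗ₜ 1) := by
  let M := Groth.L19.ModDescent.fixed (coact u)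
  have hM : Function.Bijective (Groth.L28.GmH1.mulMap M) := by
    have e : ∀ t, Groth.L28.GmH1.mulMap M t =
        LinearMap.liftBaseChange S M.subtype (TensorProduct.comm R M S t) := fun t => by
      induction t using TensorProduct.induction_on with
      | zero => simp
      | tmul a b => simp [Groth.L28.GmH1.mulMap_tmul, mul_comm]
      | add a b ha hb => simp only [map_add, ha, hb]
    rw [show ⇑(Groth.L28.GmH1.mulMap M) = (LinearMap.liftBaseChange S M.subtype) ∘ (TensorProduct.comm R M S)
      from funext e]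
    exact (bijective_fixed hu).comp (TensorProduct.comm R M S).bijective
  obtain ⟨m, b, f, hf, hmb, -⟩ := Groth.L28.GmH1.exists_local_gen M hM q
  exact ⟨m, b, f, hf, hmb, (sub_eq_zero.1 (LinearMap.mem_ker.1 m.2)).symm⟩

end Groth.Agent.InvDescent
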