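/-
Descent data of invertible modules in terms of related cartesian arrows, and the units comparing them
with trivialisations.
-/
import Groth.Agent.L26.Theta.Descent

open CategoryTheory CategoryTheory.Limits AlgebraicGeometry TopologicalSpace Opposite
open CategoryTheory.Pseudofunctor
open Groth.Agent.ThetaCart Groth.Agent.ThetaDescent

universe u

noncomputable section

namespace Groth.Agent.InvDescent

set_option backward.isDefEq.respectTransparency false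
set_option backward.isDefEq.respectTransparency.types false
set_option linter.style.haveILetI false

/-- A descent datum for the module of `X` along `b`: which arrows into `X` get identified. -/
structure Datum (X : Obj.{u}) {P : Scheme.{u}} (b : X.base ⟶ P) where
  /-- two arrows are related -/
  Rel : ∀ {R : Obj.{u}}, (R ⟶ X) → (R ⟶ X) → Prop
  base : ∀ {R : Obj.{u}} {l l' : R ⟶ X}, Rel l l' → l.base ≫ b = l'.base ≫ b
  refl : ∀ {R : Obj.{u}} (l : R ⟶ X), IsCart l → Rel l l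
  trans : ∀ {R : Obj.{u}} {l l' l'' : R ⟶ X}, Rel l l' → Rel l' l'' → Rel l l''
  comp : ∀ {R R' : Obj.{u}} (m : R' ⟶ R) {l l' : R ⟶ X}, IsCart m → Rel l l' → Rel (m ≫ l) (m ≫ l')
  unique : ∀ {R : Obj.{u}} {l l' l'' : R ⟶ X}, Rel l l' → Rel l l'' → l'.base = l''.base → l' = l''
  exist : ∀ {R : Obj.{u}} (l : R ⟶ X), IsCart l → ∀ g : R.base ⟶ X.base, l.base ≫ b = g ≫ b →
    ∃ l', IsCart l' ∧ l'.base = g ∧ Rel l l'

variable {X : Obj.{u}} {P : Scheme.{u}} {b : X.base ⟶ P} (D : Datum X b)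

theorem Datum.symm {R : Obj.{u}} {l l' : R ⟶ X} [IsCart l] [IsCart l'] (h : D.Rel l l') : D.Rel l' l := by
  obtain ⟨l₂, h₂, hb, hr⟩ := D.exist l' ‹_› l.base (D.base h).symm
  rwa [← D.unique (D.refl l ‹_›) (D.trans h hr) hb.symm] at hr

/-- The trivial pair. -/
abbrev triv (P : Scheme.{u}) : Obj.{u} := ⟨P, Coh.structureModule P⟩

variable (X) in
/-- The pair restricted along a morphism. -/
abbrev res {Z : Scheme.{u}} (j : Z ⟶ X.base) : Obj.{u} := ⟨Z, (Scheme.Modules.pullback j).obj (md X)⟩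

variable (X) in
/-- The restriction arrow. -/
abbrev eps {Z : Scheme.{u}} (j : Z ⟶ X.base) : res X j ⟶ X := ⟨j, 𝟙 _⟩

instance {Z : Scheme.{u}} (j : Z ⟶ X.base) : IsCart (eps X j) :=
  inferInstanceAs (IsIso (𝟙 ((Scheme.Modules.pullback j).obj (md X))))

variable (hX : PicF.IsInvertible (md X))

section

include hX
theorem isInvertible_res {Z : Scheme.{u}} (j : Z ⟶ X.base) : PicF.IsInvertible (md (res X j)) :=
  Groth.L18.Ample.isInvertible_pullback _ hX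

theorem isInvertible_of_cart {R : Obj.{u}} (l : R ⟶ X) [IsCart l] : PicF.IsInvertible (md R) :=
  Groth.L18.Ample.isInvertible_of_iso (asIso l.fiber).symm (Groth.L18.Ample.isInvertible_pullback l.base hX)

end

/-- Comparison of two trivialisations on related arrows. -/
def Cmp {Z Z' W : Scheme.{u}} {j : Z ⟶ X.base} {j' : Z' ⟶ X.base} (Q : res X j ⟶ triv P)
    (Q' : res X j' ⟶ triv P) (g : W ⟶ Z) (g' : W ⟶ Z') (c : Γ(W, ⊤)ˣ) : Prop :=
  ∀ (M : W.Modules) (γ : (⟨W, M⟩ : Obj.{u}) ⟶ res X j) (γ' : (⟨W, M⟩ : Obj.{u}) ⟶ res X j'),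
    IsCart γ → IsCart γ' → γ.base = g → γ'.base = g' → D.Rel (γ ≫ eps X j) (γ' ≫ eps X j') →
      γ ≫ Q = act (c : Γ(W, ⊤)) (γ' ≫ Q')

variable {Z Z' Z'' W W' : Scheme.{u}} {j : Z ⟶ X.base} {j' : Z' ⟶ X.base} {j'' : Z'' ⟶ X.base}
  {Q : res X j ⟶ triv P} {Q' : res X j' ⟶ triv P} {Q'' : res X j'' ⟶ triv P}
  {g : W ⟶ Z} {g' : W ⟶ Z'} {g'' : W ⟶ Z''}

/-- Related lifts exist. -/
theorem exists_lifts (hg : g ≫ j ≫ b = g' ≫ j' ≫ b) :
    ∃ (M : W.Modules) (γ : (⟨W, M⟩ : Obj.{u}) ⟶ res X j) (γ' : (⟨W, M⟩ : Obj.{u}) ⟶ res X j'),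
      IsCart γ ∧ IsCart γ' ∧ γ.base = g ∧ γ'.base = g' ∧ D.Rel (γ ≫ eps X j) (γ' ≫ eps X j') := by
  let M := (Scheme.Modules.pullback g).obj (md (res X j))
  let γ : (⟨W, M⟩ : Obj.{u}) ⟶ res X j := ⟨g, 𝟙 _⟩
  haveI : IsCart γ := inferInstanceAs (IsIso (𝟙 _))
  haveI := isCart_comp γ (eps X j)
  obtain ⟨l, hl, hlb, hr⟩ := D.exist (γ ≫ eps X j) inferInstance (g' ≫ j') (by
    show (g ≫ j) ≫ b = _
    rw [Category.assoc, hg, Category.assoc])
  obtain ⟨γ', hγ', he, hc⟩ := exists_fac (eps X j') l g' hlb.symm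
  exact ⟨M, γ, γ', inferInstance, hc hl, rfl, hγ', by rwa [he]⟩

include hX in
/-- The comparison exists. -/
theorem exists_cmp [IsCart Q] [IsCart Q'] (hQ : Q.base = j ≫ b) (hQ' : Q'.base = j' ≫ b)
    (hg : g ≫ j ≫ b = g' ≫ j' ≫ b) : ∃ c, Cmp D Q Q' g g' c := by
  obtain ⟨M, γ, γ', hγ, hγ', rfl, rfl, hr⟩ := exists_lifts D hg
  haveI := isCart_comp γ Q
  haveI := isCart_comp γ' Q'
  haveI := isCart_comp γ (eps X j)
  have hM : PicF.IsInvertible M := isInvertible_of_cart hX (γ ≫ eps X j)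
  obtain ⟨c, hc⟩ := exists_act_eq (X := ⟨W, M⟩) hM (γ ≫ Q) (γ' ≫ Q') (by
    show γ.base ≫ Q.base = γ'.base ≫ Q'.base
    rw [hQ, hQ']; exact hg)
  refine ⟨c, fun N δ δ' hδ hδ' hb hb' hr' => ?_⟩
  obtain ⟨e, heb, he, hec⟩ := exists_fac γ δ (𝟙 W) (by rw [Category.id_comp]; exact hb.symm)
  haveI := hec hδ
  have he' : e ≫ γ' = δ' := by
    refine fac_unique (eps X j') (by show e.base ≫ γ'.base = δ'.base; rw [heb, Category.id_comp, hb']) ?_
    refine D.unique (l := δ ≫ eps X j) ?_ hr' ?_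
    · have h := D.comp e ‹_› hr
      rwa [← Category.assoc, he, ← Category.assoc] at h
    · show (e.base ≫ γ'.base) ≫ j' = δ'.base ≫ j'
      rw [heb, Category.id_comp, hb']
  rw [← he, ← he', Category.assoc, Category.assoc, hc, comp_act, heb]
  rfl

include hX in
/-- The comparison is unique. -/
theorem cmp_unique [IsCart Q'] (hg : g ≫ j ≫ b = g' ≫ j' ≫ b) {c c' : Γ(W, ⊤)ˣ} (h : Cmp D Q Q' g g' c)
    (h' : Cmp D Q Q' g g' c') : c = c' := by
  obtain ⟨M, γ, γ', hγ, hγ', e, e', hr⟩ := exists_lifts D hg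
  haveI := isCart_comp γ' Q'
  haveI := isCart_comp γ' (eps X j')
  exact Units.ext (act_inj (isInvertible_of_cart hX (γ' ≫ eps X j')) (γ' ≫ Q')
    ((h M γ γ' hγ hγ' e e' hr).symm.trans (h' M γ γ' hγ hγ' e e' hr)))

include hX in
/-- The comparison is natural. -/
theorem cmp_comp [IsCart Q] [IsCart Q'] (hQ : Q.base = j ≫ b) (hQ' : Q'.base = j' ≫ b)
    (hg : g ≫ j ≫ b = g' ≫ j' ≫ b) {c : Γ(W, ⊤)ˣ} (h : Cmp D Q Q' g g' c) (q : W' ⟶ W) :
    Cmp D Q Q' (q ≫ g) (q ≫ g') (Units.map q.appTop.hom.toMonoidHom c) := by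
  have hqg : (q ≫ g) ≫ j ≫ b = (q ≫ g') ≫ j' ≫ b := by rw [Category.assoc, hg, Category.assoc]
  obtain ⟨c', hc'⟩ := exists_cmp D hX hQ hQ' hqg
  suffices c' = Units.map q.appTop.hom.toMonoidHom c by rwa [this] at hc'
  obtain ⟨M, γ, γ', hγ, hγ', e, e', hr⟩ := exists_lifts D hg
  let μ : (⟨W', (Scheme.Modules.pullback q).obj M⟩ : Obj.{u}) ⟶ ⟨W, M⟩ := ⟨q, 𝟙 _⟩
  haveI : IsCart μ := inferInstanceAs (IsIso (𝟙 _))
  haveI := isCart_comp μ γ
  haveI := isCart_comp μ γ'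
  haveI := isCart_comp (μ ≫ γ') Q'
  haveI := isCart_comp (μ ≫ γ') (eps X j')
  have h1 := hc' _ (μ ≫ γ) (μ ≫ γ') inferInstance inferInstance (by show q ≫ γ.base = _; rw [e])
    (by show q ≫ γ'.base = _; rw [e']) (by rw [Category.assoc, Category.assoc]; exact D.comp μ ‹_› hr)
  rw [Category.assoc, h M γ γ' hγ hγ' e e' hr, comp_act, ← Category.assoc] at h1
  exact Units.ext (act_inj (isInvertible_of_cart hX ((μ ≫ γ') ≫ eps X j')) ((μ ≫ γ') ≫ Q') h1.symm)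

include hX in
/-- The cocycle rule. -/
theorem cmp_mul [IsCart Q] [IsCart Q''] (hQ : Q.base = j ≫ b) (hQ'' : Q''.base = j'' ≫ b)
    (hg : g ≫ j ≫ b = g' ≫ j' ≫ b) (hg' : g' ≫ j' ≫ b = g'' ≫ j'' ≫ b) {c c' : Γ(W, ⊤)ˣ}
    (h : Cmp D Q Q' g g' c) (h' : Cmp D Q' Q'' g' g'' c') : Cmp D Q Q'' g g'' (c * c') := by
  obtain ⟨d, hd⟩ := exists_cmp D hX hQ hQ'' (hg.trans hg')
  suffices d = c * c' by rwa [this] at hd
  obtain ⟨M, γ, γ', hγ, hγ', e, e', hr⟩ := exists_lifts D hg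
  haveI := isCart_comp γ' (eps X j')
  obtain ⟨l, hl, hlb, hr'⟩ := D.exist (γ' ≫ eps X j') inferInstance (g'' ≫ j'') (by
    show (γ'.base ≫ j') ≫ b = _
    rw [e', Category.assoc, hg', Category.assoc])
  obtain ⟨γ'', e'', he, hc⟩ := exists_fac (eps X j'') l g'' hlb.symm
  haveI := hc hl
  haveI := isCart_comp γ'' Q''
  rw [← he] at hr'
  have h1 := hd M γ γ'' hγ inferInstance e e'' (D.trans hr hr')
  rw [h M γ γ' hγ hγ' e e' hr, h' M γ' γ'' hγ' inferInstance e' e'' hr', act_act] at h1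
  exact Units.ext ((act_inj (X := ⟨W, M⟩) (isInvertible_of_cart hX (γ' ≫ eps X j')) (γ'' ≫ Q'') h1).symm.trans
    (Units.val_mul c c').symm)

end Groth.Agent.InvDescent
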