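/-
Invariant trivialisations near every point.
-/
import Groth.Agent.L26.InvDescent.Datum
import Groth.Agent.L26.InvDescent.Alg
import Mathlib.AlgebraicGeometry.Morphisms.UniversallyOpen
import Mathlib.AlgebraicGeometry.Morphisms.Flat

open CategoryTheory CategoryTheory.Limits AlgebraicGeometry TopologicalSpace Opposite
open CategoryTheory.Pseudofunctor
open Groth.Agent.ThetaCart Groth.Agent.ThetaDescent
open scoped TensorProduct

universe u

noncomputable section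

namespace Groth.Agent.InvDescent

set_option backward.isDefEq.respectTransparency false
set_option backward.isDefEq.respectTransparency.types false
set_option linter.style.haveILetI false

variable {X : Obj.{u}} {P : Scheme.{u}} {b : X.base ⟶ P} (D : Datum X b) (hX : PicF.IsInvertible (md X))

/-- An invariant trivialisation on an open. -/
structure Chart where
  /-- the open -/
  O : X.base.Opens
  /-- the trivialisation -/
  Q : res X O.ι ⟶ triv P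
  cart : IsCart Q
  base : Q.base = O.ι ≫ b
  inv : ∀ {W : Scheme.{u}} (g g' : W ⟶ O.toScheme), g ≫ O.ι ≫ b = g' ≫ O.ι ≫ b → Cmp D Q Q g g' 1

theorem toSpecΓ_comp_appTop {A : CommRingCat.{u}} {W : Scheme.{u}} (φ : A ⟶ Γ(W, ⊤)) :
    (W.toSpecΓ ≫ Spec.map φ).appTop = (Scheme.ΓSpecIso A).hom ≫ φ := by
  rw [Scheme.Hom.comp_appTop, Scheme.toSpecΓ_appTop]
  exact Scheme.ΓSpecIso_naturality φ

/-- A morphism to an affine scheme from a ring map. -/
def pt {Z W : Scheme.{u}} [IsAffine Z] (φ : Γ(Z, ⊤) →+* Γ(W, ⊤)) : W ⟶ Z :=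
  W.toSpecΓ ≫ Spec.map (CommRingCat.ofHom φ) ≫ Z.isoSpec.inv

theorem pt_appTop {Z W : Scheme.{u}} [IsAffine Z] (φ : Γ(Z, ⊤) →+* Γ(W, ⊤)) (x : Γ(Z, ⊤)) :
    (pt φ).appTop x = φ x := by
  have e : (pt φ).appTop = Z.isoSpec.inv.appTop ≫ (Scheme.ΓSpecIso Γ(Z, ⊤)).hom ≫ CommRingCat.ofHom φ := by
    rw [pt, ← Category.assoc, Scheme.Hom.comp_appTop, toSpecΓ_comp_appTop]
    rfl
  have h1 : Z.isoSpec.inv.appTop ≫ Z.isoSpec.hom.appTop = 𝟙 _ := by
    rw [← Scheme.Hom.comp_appTop, Iso.hom_inv_id]; exact Scheme.Hom.id_appTop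
  have h2 : Z.isoSpec.hom.appTop = (Scheme.ΓSpecIso Γ(Z, ⊤)).hom := Scheme.toSpecΓ_appTop Z
  rw [e, ← Category.assoc, ← h2, h1, Category.id_comp]
  rfl

theorem ringHom_ext_affine {Z W : Scheme.{u}} [IsAffine Z] {f g : W ⟶ Z} (h : ∀ x, f.appTop x = g.appTop x) :
    f = g := ext_of_isAffine (CommRingCat.hom_ext (RingHom.ext h))

theorem exists_res_iso {O : X.base.Opens} (h : Nonempty ((md X).restrict O.ι ≅ Coh.structureModule O.toScheme)) :
    ∃ Q : res X O.ι ⟶ triv P, IsCart Q ∧ Q.base = O.ι ≫ b := by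
  obtain ⟨φ⟩ := h
  obtain ⟨ψ⟩ := (PicGrp.cl_eq_cl_iff ((Scheme.Modules.pullback (O.ι ≫ b)).obj (Coh.structureModule P))
    (Coh.structureModule O.toScheme)).1 (AbDualLib.pullCl_oneCl (O.ι ≫ b))
  let θ : (Scheme.Modules.pullback O.ι).obj (md X) ≅ (Scheme.Modules.pullback (O.ι ≫ b)).obj (Coh.structureModule P) :=
    ((Scheme.Modules.restrictFunctorIsoPullback O.ι).app (md X)).symm ≪≫ φ ≪≫ ψ.symm
  exact ⟨⟨O.ι ≫ b, θ.hom⟩, inferInstanceAs (IsIso θ.hom), rfl⟩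

include hX in
/-- Shrinking a trivialisation. -/
theorem exists_shrink {O O' : X.base.Opens} (hO : O' ≤ O) (Q : res X O.ι ⟶ triv P) [IsCart Q]
    (hQ : Q.base = O.ι ≫ b) {m : Γ(O'.toScheme, ⊤)} (hm : IsUnit m) :
    ∃ Q' : res X O'.ι ⟶ triv P, IsCart Q' ∧ Q'.base = O'.ι ≫ b ∧
      ∀ {W : Scheme.{u}} (g g' : W ⟶ O'.toScheme) (c : Γ(W, ⊤)ˣ), g ≫ O'.ι ≫ b = g' ≫ O'.ι ≫ b →
        Cmp D Q Q (g ≫ X.base.homOfLE hO) (g' ≫ X.base.homOfLE hO) c →
        g.appTop m * c = g'.appTop m → Cmp D Q' Q' g g' 1 := by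
  obtain ⟨r, hrb, hr, hrc⟩ := exists_fac (eps X O.ι) (eps X O'.ι) (X.base.homOfLE hO) (X.base.homOfLE_ι hO)
  haveI := hrc inferInstance
  haveI := isCart_comp r Q
  refine ⟨act m (r ≫ Q), isCart_act hm _, ?_, fun g g' c hg hc he M γ γ' hγ hγ' hb hb' hR => ?_⟩
  · show r.base ≫ Q.base = _
    rw [hrb, hQ, ← Category.assoc, Scheme.homOfLE_ι]
  · haveI := isCart_comp γ r
    haveI := isCart_comp γ' r
    have h := hc M (γ ≫ r) (γ' ≫ r) inferInstance inferInstance (by show γ.base ≫ r.base = _; rw [hb, hrb])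
      (by show γ'.base ≫ r.base = _; rw [hb', hrb]) (by rw [Category.assoc, Category.assoc, hr]; exact hR)
    rw [Units.val_one, act_one, comp_act, comp_act, hb, hb', ← Category.assoc, h, act_act, he, Category.assoc]

variable [Flat b] [LocallyOfFinitePresentation b]

omit hX in
theorem exists_affine_cover (x : X.base) (h : PicF.IsInvertible (md X)) :
    ∃ (U : X.base.Opens) (V : P.Opens) (e : U ≤ b ⁻¹ᵁ V), x ∈ U ∧ IsAffineOpen U ∧ IsAffineOpen V ∧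
      Function.Surjective (b.resLE V U e).base ∧
      Nonempty ((md X).restrict U.ι ≅ Coh.structureModule U.toScheme) := by
  obtain ⟨U₀, hx₀, ⟨φ⟩⟩ := h x
  obtain ⟨_, ⟨V₀, hV₀, rfl⟩, hbx, -⟩ := P.isBasis_affineOpens.exists_subset_of_mem_open
    (show b x ∈ (⊤ : P.Opens) from trivial) (⊤ : P.Opens).2
  obtain ⟨_, ⟨U₁, hU₁, rfl⟩, hxU₁, hU₁le⟩ := X.base.isBasis_affineOpens.exists_subset_of_mem_open
    (show x ∈ U₀ ⊓ b ⁻¹ᵁ V₀ from ⟨hx₀, hbx⟩) (U₀ ⊓ b ⁻¹ᵁ V₀).2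
  let W : P.Opens := ⟨b '' (U₁ : Set X.base), b.isOpenMap _ U₁.2⟩
  obtain ⟨f, hfle, hxf⟩ := hV₀.exists_basicOpen_le (V := W) ⟨b x, ⟨x, hxU₁, rfl⟩⟩ hbx
  have hU₁V : U₁ ≤ b ⁻¹ᵁ V₀ := fun y hy => (hU₁le hy).2
  let U := X.base.basicOpen (b.appLE V₀ U₁ hU₁V f)
  have hUeq : U = U₁ ⊓ b ⁻¹ᵁ (P.basicOpen f) := by
    simp only [U, Scheme.Hom.appLE, CommRingCat.comp_apply, Scheme.preimage_basicOpen]
    exact Scheme.basicOpen_res _ _ _
  have hUU₀ : U ≤ U₀ := fun y hy => (hU₁le ((X.base.basicOpen_le _) hy)).1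
  refine ⟨U, P.basicOpen f, by rw [hUeq]; exact inf_le_right, by rw [hUeq]; exact ⟨hxU₁, hxf⟩, hU₁.basicOpen _,
    hV₀.basicOpen f, fun z => ?_, ?_⟩
  · obtain ⟨y, hy, hyz⟩ := hfle z.2
    have hyU : y ∈ U := by rw [hUeq]; exact ⟨hy, show b y ∈ P.basicOpen f by rw [hyz]; exact z.2⟩
    refine ⟨⟨y, hyU⟩, Subtype.ext ?_⟩
    show ((b.resLE _ U _) ≫ (P.basicOpen f).ι) ⟨y, hyU⟩ = _
    rw [Scheme.Hom.resLE_comp_ι]
    exact hyz
  · obtain ⟨ψ⟩ := (PicGrp.cl_eq_cl_iff _ _).1 (AbDualLib.pullCl_oneCl (X.base.homOfLE hUU₀))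
    exact ⟨(Scheme.Modules.restrictFunctorIsoPullback U.ι).app (md X) ≪≫
      (Scheme.Modules.pullbackCongr (X.base.homOfLE_ι hUU₀).symm).app (md X) ≪≫
      ((Scheme.Modules.pullbackComp (X.base.homOfLE hUU₀) U₀.ι).app (md X)).symm ≪≫
      (Scheme.Modules.pullback (X.base.homOfLE hUU₀)).mapIso
        (((Scheme.Modules.restrictFunctorIsoPullback U₀.ι).app (md X)).symm ≪≫ φ) ≪≫ ψ⟩

include hX in
/-- Invariant trivialisations exist near every point. -/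
theorem exists_chart (x : X.base) : ∃ C : Chart D, x ∈ C.O := by
  obtain ⟨U, V, e, hxU, hU, hV, hsurj, htriv⟩ := exists_affine_cover (b := b) x hX
  obtain ⟨Q, _, hQ⟩ := exists_res_iso (b := b) htriv
  haveI : IsAffine U.toScheme := hU
  haveI : IsAffine V.toScheme := hV
  let p := b.resLE V U e
  have hp : p ≫ V.ι = U.ι ≫ b := Scheme.Hom.resLE_comp_ι _ _
  haveI : Flat p := inferInstance
  letI : Algebra Γ(V.toScheme, ⊤) Γ(U.toScheme, ⊤) := p.appTop.hom.toAlgebra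
  haveI : Module.Flat Γ(V.toScheme, ⊤) Γ(U.toScheme, ⊤) :=
    (HasRingHomProperty.iff_of_isAffine (P := @Flat)).1 ‹Flat p›
  haveI : Module.FaithfullyFlat Γ(V.toScheme, ⊤) Γ(U.toScheme, ⊤) := by
    refine Module.FaithfullyFlat.of_comap_surjective fun q => ?_
    obtain ⟨w, hw⟩ := hsurj (V.toScheme.isoSpec.inv q)
    refine ⟨U.toScheme.isoSpec.hom w, ?_⟩
    have := congrArg (fun φ : U.toScheme ⟶ Spec Γ(V.toScheme, ⊤) => φ w) (Scheme.isoSpec_hom_naturality p)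
    show (Spec.map p.appTop) (U.toScheme.isoSpec.hom w) = q
    refine this.trans ?_
    show V.toScheme.isoSpec.hom (p w) = q
    rw [hw]
    exact congrArg (fun φ : Spec Γ(V.toScheme, ⊤) ⟶ Spec Γ(V.toScheme, ⊤) => φ q) V.toScheme.isoSpec.inv_hom_id
  let S := Γ(U.toScheme, ⊤)
  let R := Γ(V.toScheme, ⊤)
  let S₂ := Spec (CommRingCat.of (S ⊗[R] S))
  let S₃ := Spec (CommRingCat.of (S ⊗[R] (S ⊗[R] S)))
  let ev₂ : S ⊗[R] S →+* Γ(S₂, ⊤) := (Scheme.ΓSpecIso (CommRingCat.of (S ⊗[R] S))).inv.hom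
  let a₁ : S₂ ⟶ U.toScheme := pt (ev₂.comp (Algebra.TensorProduct.includeLeftRingHom : S →+* S ⊗[R] S))
  let a₂ : S₂ ⟶ U.toScheme :=
    pt (ev₂.comp (Algebra.TensorProduct.includeRight : S →ₐ[R] S ⊗[R] S).toRingHom)
  have ha : a₁ ≫ U.ι ≫ b = a₂ ≫ U.ι ≫ b := by
    rw [← hp, ← Category.assoc, ← Category.assoc]
    refine congrArg (· ≫ V.ι) (ringHom_ext_affine fun r => ?_)
    show a₁.appTop (p.appTop r) = a₂.appTop (p.appTop r)
    rw [pt_appTop, pt_appTop]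
    exact congrArg ev₂ (Algebra.TensorProduct.tmul_one_eq_one_tmul r)
  obtain ⟨c₂, hc₂⟩ := exists_cmp D hX hQ hQ ha
  let u : (S ⊗[R] S)ˣ := Units.map (Scheme.ΓSpecIso (CommRingCat.of (S ⊗[R] S))).hom.hom.toMonoidHom c₂
  have hev : ev₂ (u : S ⊗[R] S) = c₂ := Iso.hom_inv_id_apply (Scheme.ΓSpecIso (CommRingCat.of (S ⊗[R] S))) _
  have key : ∀ {W : Scheme.{u}} (φ : S ⊗[R] S →+* Γ(W, ⊤)) (g g' : W ⟶ U.toScheme),
      (∀ s : S, g.appTop s = φ (s ⊗ₜ[R] 1)) → (∀ s : S, g'.appTop s = φ (1 ⊗ₜ[R] s)) →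
        g ≫ U.ι ≫ b = g' ≫ U.ι ≫ b ∧ Cmp D Q Q g g' (Units.map φ.toMonoidHom u) := by
    intro W φ g g' hg hg'
    let q : W ⟶ S₂ := W.toSpecΓ ≫ Spec.map (CommRingCat.ofHom φ)
    have hq : ∀ y, q.appTop (ev₂ y) = φ y := fun y => by
      rw [toSpecΓ_comp_appTop]
      exact congrArg φ (Iso.inv_hom_id_apply (Scheme.ΓSpecIso (CommRingCat.of (S ⊗[R] S))) y)
    have e1 : q ≫ a₁ = g := ringHom_ext_affine fun s => by
      rw [hg]
      show q.appTop (a₁.appTop s) = _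
      rw [pt_appTop]
      exact hq _
    have e2 : q ≫ a₂ = g' := ringHom_ext_affine fun s => by
      rw [hg']
      show q.appTop (a₂.appTop s) = _
      rw [pt_appTop]
      exact hq _
    have h := cmp_comp D hX hQ hQ ha hc₂ q
    rw [e1, e2] at h
    refine ⟨?_, ?_⟩
    · rw [← e1, ← e2, Category.assoc q a₁, Category.assoc q a₂]
      exact congrArg (q ≫ ·) ha
    · rwa [show Units.map φ.toMonoidHom u = Units.map q.appTop.hom.toMonoidHom c₂ from Units.ext (by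
        show φ (u : S ⊗[R] S) = q.appTop (c₂ : Γ(S₂, ⊤))
        rw [← hev, hq])]
  let ev₃ : S ⊗[R] (S ⊗[R] S) →+* Γ(S₃, ⊤) := (Scheme.ΓSpecIso (CommRingCat.of (S ⊗[R] (S ⊗[R] S)))).inv.hom
  let b₁ : S₃ ⟶ U.toScheme := pt (ev₃.comp (Algebra.TensorProduct.includeLeftRingHom : S →+* S ⊗[R] (S ⊗[R] S)))
  let b₂ : S₃ ⟶ U.toScheme := pt ((ev₃.comp (d₂₃ R S).toRingHom).comp
    (Algebra.TensorProduct.includeLeftRingHom : S →+* S ⊗[R] S))
  let b₃ : S₃ ⟶ U.toScheme := pt ((ev₃.comp (d₂₃ R S).toRingHom).comp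
    (Algebra.TensorProduct.includeRight : S →ₐ[R] S ⊗[R] S).toRingHom)
  obtain ⟨g12, h12⟩ := key (ev₃.comp (d₁₂ R S).toRingHom) b₁ b₂ (fun s => pt_appTop _ s) (fun s => pt_appTop _ s)
  obtain ⟨g23, h23⟩ := key (ev₃.comp (d₂₃ R S).toRingHom) b₂ b₃ (fun s => pt_appTop _ s) (fun s => pt_appTop _ s)
  obtain ⟨g13, h13⟩ := key (ev₃.comp (d₁₃ R S).toRingHom) b₁ b₃ (fun s => pt_appTop _ s) (fun s => pt_appTop _ s)
  have hu : d₂₃ R S u * d₁₂ R S u = d₁₃ R S u := by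
    have h := congrArg Units.val (cmp_unique D hX g13 (cmp_mul D hX hQ hQ g12 g23 h12 h23) h13)
    simp only [Units.val_mul, Units.coe_map] at h
    replace h : ev₃ (d₁₂ R S u) * ev₃ (d₂₃ R S u) = ev₃ (d₁₃ R S u) := h
    rw [← map_mul] at h
    rw [mul_comm]
    exact (Scheme.ΓSpecIso (CommRingCat.of (S ⊗[R] (S ⊗[R] S)))).symm.commRingCatIsoToRingEquiv.injective h
  obtain ⟨m, m', f, hf, hmf, hm⟩ := exists_coboundary hu
    (V.toScheme.isoSpec.hom (p ⟨x, hxU⟩)).asIdeal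
  let O₁ : U.toScheme.Opens := U.toScheme.basicOpen (p.appTop f)
  let O : X.base.Opens := U.ι ''ᵁ O₁
  have hOU : O ≤ U := by
    rintro _ ⟨y, -, rfl⟩
    exact y.2
  have hpre : ∀ y : O.toScheme, X.base.homOfLE hOU y ∈ O₁ := fun y => by
    obtain ⟨z, hz, hzy⟩ := y.2
    have : z = X.base.homOfLE hOU y := Subtype.ext (hzy.trans (congrArg (fun φ : O.toScheme ⟶ X.base => φ y)
      (X.base.homOfLE_ι hOU)).symm)
    rwa [← this]
  have hmu : IsUnit ((X.base.homOfLE hOU).appTop m) := by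
    refine isUnit_of_mul_isUnit_left (y := (X.base.homOfLE hOU).appTop m') ?_
    rw [← map_mul, hmf]
    refine RingedSpace.isUnit_of_isUnit_germ O.toScheme.toRingedSpace ⊤ _ fun y hy => ?_
    refine (O.toScheme.mem_basicOpen _ y hy).1 ?_
    rw [← Scheme.preimage_basicOpen_top]
    exact hpre y
  obtain ⟨Q', hQ'c, hQ'b, hQ'⟩ := exists_shrink D hX hOU Q hQ hmu
  refine ⟨⟨O, Q', hQ'c, hQ'b, fun {W} g g' hg => ?_⟩, ⟨⟨x, hxU⟩, ?_, rfl⟩⟩
  · let h := g ≫ X.base.homOfLE hOU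
    let h' := g' ≫ X.base.homOfLE hOU
    have hh : h ≫ p = h' ≫ p := by
      rw [← cancel_mono V.ι]
      simp only [h, h', Category.assoc, hp, X.base.homOfLE_ι_assoc]
      exact hg
    letI : Algebra R Γ(W, ⊤) := ((h ≫ p).appTop.hom).toAlgebra
    let φ₁ : S →ₐ[R] Γ(W, ⊤) := { h.appTop.hom with commutes' := fun r => rfl }
    have hcomm : ∀ r : R, h'.appTop (p.appTop r) = (h ≫ p).appTop r := fun r => by rw [hh]; rfl
    let φ₂ : S →ₐ[R] Γ(W, ⊤) := { h'.appTop.hom with commutes' := hcomm }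
    let φ := Algebra.TensorProduct.lift φ₁ φ₂ fun _ _ => Commute.all _ _
    obtain ⟨-, hc⟩ := key φ.toRingHom h h'
      (fun s => ((Algebra.TensorProduct.lift_tmul φ₁ φ₂ _ s 1).trans (by rw [map_one, mul_one]; rfl)).symm)
      (fun s => ((Algebra.TensorProduct.lift_tmul φ₁ φ₂ _ 1 s).trans (by rw [map_one, one_mul]; rfl)).symm)
    refine hQ' g g' _ hg hc ?_
    show h.appTop m * φ (u : S ⊗[R] S) = h'.appTop m
    have e := congrArg φ hm
    rw [map_mul, Algebra.TensorProduct.lift_tmul, Algebra.TensorProduct.lift_tmul, map_one, map_one, one_mul,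
      mul_one, mul_comm] at e
    exact e.symm
  · show (⟨x, hxU⟩ : U.toScheme) ∈ U.toScheme.basicOpen (p.appTop f)
    rw [← Scheme.preimage_basicOpen_top]
    show p ⟨x, hxU⟩ ∈ V.toScheme.basicOpen f
    rw [← Scheme.toSpecΓ_preimage_basicOpen]
    exact hf

end Groth.Agent.InvDescent
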