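/-
Functions on the image of a flat morphism, and sections along open immersions.
-/
import Groth.Agent.L26.AbDual.FunDescent
import Groth.Agent.L26.Poincare.PullKernel
import Groth.Agent.L26.AbDual.SplitDescent
import Groth.Agent.L19.ProjBdl.PullComp

open CategoryTheory CategoryTheory.Limits AlgebraicGeometry TopologicalSpace Opposite
open Groth.L18.Frame (rs ro pull rs_rs rs_self)
open Groth.Agent.AbDualLib (ι_appLE_bijective top_le_ι_preimage appTop_appLE appLE_hom_congr)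

universe u

noncomputable section

namespace Groth.Agent.InvDescent

set_option backward.isDefEq.respectTransparency false
set_option backward.isDefEq.respectTransparency.types false
set_option linter.style.haveILetI false

theorem pull_ι {X : Scheme.{u}} (U : X.Opens) (M : X.Modules) (V : X.Opens) (m : Γ(M, V)) :
    pull U.ι M V m = ((Scheme.Modules.restrictFunctorIsoPullback U.ι).hom.app M).app (U.ι ⁻¹ᵁ V)
      (show Γ((Scheme.Modules.restrictFunctor U.ι).obj M, U.ι ⁻¹ᵁ V) from rs M (U.ι.image_preimage_le V) m) := by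
  have h := Adjunction.unit_leftAdjointUniq_hom_app (Scheme.Modules.restrictAdjunction U.ι)
    (Scheme.Modules.pullbackPushforwardAdjunction U.ι) M
  exact (congr(($h).app V m)).symm

theorem bijective_pull_ι {X : Scheme.{u}} (U : X.Opens) (M : X.Modules) {V : X.Opens} (h : V ≤ U) :
    Function.Bijective (pull U.ι M V) := by
  have e : U.ι ''ᵁ (U.ι ⁻¹ᵁ V) = V := by
    rw [Scheme.Hom.image_preimage_eq_opensRange_inf, Scheme.Opens.opensRange_ι]; exact inf_eq_right.2 h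
  rw [show pull U.ι M V = (fun z => ((Scheme.Modules.restrictFunctorIsoPullback U.ι).hom.app M).app (U.ι ⁻¹ᵁ V) z) ∘
    (fun m => (show Γ((Scheme.Modules.restrictFunctor U.ι).obj M, U.ι ⁻¹ᵁ V) from rs M (U.ι.image_preimage_le V) m))
    from funext (pull_ι U M V)]
  refine (ConcreteCategory.bijective_of_isIso _).comp ⟨fun a a' ha => ?_, fun z => ⟨rs M e.ge z, ?_⟩⟩
  · have := congrArg (rs M e.ge) (show rs M (U.ι.image_preimage_le V) a = rs M (U.ι.image_preimage_le V) a' from ha)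
    rwa [Groth.L18.Frame.rs_rs, Groth.L18.Frame.rs_rs, Groth.L18.Frame.rs_self, Groth.L18.Frame.rs_self] at this
  · exact (Groth.L18.Frame.rs_rs M _ _ z).trans (Groth.L18.Frame.rs_self M _ z)

variable {P Z : Scheme.{u}} (k : Z ⟶ P) (V : P.Opens) (hk : (⊤ : Z.Opens) ≤ k ⁻¹ᵁ V)

/-- Pullback of units on an open. -/
abbrev pb (e : (⊤ : Z.Opens) ≤ k ⁻¹ᵁ V) : Γ(P, V)ˣ →* Γ(Z, ⊤)ˣ :=
  Units.map (k.appLE V ⊤ e).hom.toMonoidHom

variable [Flat k] [LocallyOfFinitePresentation k] (hs : ∀ p ∈ V, ∃ z, k z = p)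

include hs in
theorem surjective_restrict : Surjective (k ∣_ V) := ⟨fun p => by
  obtain ⟨z, hz⟩ := hs p.1 p.2
  refine ⟨⟨z, show k z ∈ V by rw [hz]; exact p.2⟩, Subtype.ext ?_⟩
  show ((k ∣_ V) ≫ V.ι) _ = _
  rw [morphismRestrict_ι]
  exact hz⟩

include hs in
/-- Functions on the image are determined upstairs. -/
theorem fun_injective {d d' : Γ(P, V)} (h : k.appLE V ⊤ hk d = k.appLE V ⊤ hk d') : d = d' := by
  haveI := surjective_restrict k V hs
  refine (ι_appLE_bijective V).1 (AbDualLib.fun_ext (Y := V.toScheme) ⊤ (fun _ : PUnit.{u + 1} => (k ⁻¹ᵁ V).toScheme)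
    (fun _ => k ∣_ V) Poincare.PullKernel.mem_fppf _ _ fun _ => ?_)
  have e : ∀ x : Γ(P, V), (k ∣_ V).app ⊤ (V.ι.appLE V ⊤ (top_le_ι_preimage V) x) =
      (k ⁻¹ᵁ V).ι.appTop (k.appLE V ⊤ hk x) := fun x => by
    show (k ∣_ V).appTop _ = _
    rw [appTop_appLE, appTop_appLE]
    exact ConcreteCategory.congr_hom (appLE_hom_congr (morphismRestrict_ι k V) _) x
  show (k ∣_ V).app ⊤ (V.ι.appLE V ⊤ _ d) = (k ∣_ V).app ⊤ (V.ι.appLE V ⊤ _ d')
  rw [e, e, h]

include hs in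
/-- Invariant functions descend to the image. -/
theorem exists_fun (a : Γ(Z, ⊤))
    (ha : ∀ (W : Scheme.{u}) (l l' : W ⟶ Z), l ≫ k = l' ≫ k → l.appTop a = l'.appTop a) :
    ∃ d, k.appLE V ⊤ hk d = a := by
  haveI := surjective_restrict k V hs
  let ι' := (k ⁻¹ᵁ V).ι
  obtain ⟨d', hd'⟩ := AbDualLib.exists_fun_desc (Y := V.toScheme) ⊤ (fun _ : PUnit.{u + 1} => (k ⁻¹ᵁ V).toScheme)
    (fun _ => k ∣_ V) Poincare.PullKernel.mem_fppf (fun _ => ι'.appTop a) fun j j' {R} l l' W h h' e => by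
      refine (ι_appLE_bijective W).1 ?_
      have key : ∀ (m : R ⟶ (k ⁻¹ᵁ V).toScheme) (hm : W ≤ m ⁻¹ᵁ (k ∣_ V) ⁻¹ᵁ ⊤),
          W.ι.appLE W ⊤ (top_le_ι_preimage W) (m.appLE _ W hm (ι'.appTop a)) = (W.ι ≫ m ≫ ι').appTop a := by
        intro m hm
        rw [Scheme.Hom.comp_appTop, Scheme.Hom.comp_appTop]
        show (m.appLE _ W hm ≫ W.ι.appLE W ⊤ _) (ι'.appTop a) = W.ι.appTop (m.appTop (ι'.appTop a))
        rw [Scheme.Hom.appLE_comp_appLE]
        show _ = (m.appTop ≫ W.ι.appTop) (ι'.appTop a)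
        rw [← Scheme.Hom.comp_appTop, Scheme.Hom.appTop]
        simp only [Scheme.Hom.app_eq_appLE]
        first | rfl | exact rfl | congr 2
      show W.ι.appLE W ⊤ _ (l.appLE _ W h (ι'.appTop a)) = W.ι.appLE W ⊤ _ (l'.appLE _ W h' (ι'.appTop a))
      rw [key, key]
      refine ha _ _ _ ?_
      simp only [Category.assoc, ι', ← morphismRestrict_ι, reassoc_of% e]
  obtain ⟨d, rfl⟩ := (ι_appLE_bijective V).2 d'
  refine ⟨d, ?_⟩
  let j : Z ⟶ (k ⁻¹ᵁ V).toScheme := IsOpenImmersion.lift (k ⁻¹ᵁ V).ι (𝟙 Z) (by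
    rw [Scheme.Opens.range_ι]
    exact fun z _ => hk trivial)
  have hj : j ≫ ι' = 𝟙 Z := IsOpenImmersion.lift_fac _ _ _
  have h1 : j.appTop ((k ∣_ V).appTop (V.ι.appLE V ⊤ (top_le_ι_preimage V) d)) = j.appTop (ι'.appTop a) :=
    congrArg j.appTop (hd' PUnit.unit)
  have e1 : ∀ (z : Γ(V.toScheme, ⊤)), j.appTop ((k ∣_ V).appTop z) = (j ≫ k ∣_ V).appTop z := fun z => by
    rw [Scheme.Hom.comp_appTop]; rfl
  have e2 : j.appTop (ι'.appTop a) = a := by
    show (ι'.appTop ≫ j.appTop) a = a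
    rw [← Scheme.Hom.comp_appTop, hj, Scheme.Hom.id_appTop]; rfl
  rw [e1, e2, appTop_appLE] at h1
  refine Eq.trans ?_ h1
  refine ConcreteCategory.congr_hom (appLE_hom_congr ?_ _) d
  rw [Category.assoc, morphismRestrict_ι, ← Category.assoc, hj, Category.id_comp]

include hs in
/-- Invariant units descend to the image. -/
theorem exists_unit (a : Γ(Z, ⊤)ˣ)
    (ha : ∀ (W : Scheme.{u}) (l l' : W ⟶ Z), l ≫ k = l' ≫ k →
      Units.map l.appTop.hom.toMonoidHom a = Units.map l'.appTop.hom.toMonoidHom a) :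
    ∃ d, pb k V hk d = a := by
  obtain ⟨d, hd⟩ := exists_fun k V hk hs a fun W l l' e => congrArg Units.val (ha W l l' e)
  obtain ⟨d', hd'⟩ := exists_fun k V hk hs (↑a⁻¹ : Γ(Z, ⊤)) fun W l l' e =>
    congrArg Units.val ((map_inv _ a).trans ((congrArg (·⁻¹) (ha W l l' e)).trans (map_inv _ a).symm))
  have h : d * d' = 1 := fun_injective k V hk hs (by rw [map_mul, hd, hd', map_one, Units.mul_inv])
  exact ⟨Units.mkOfMulEqOne d d' h, Units.ext hd⟩

end Groth.Agent.InvDescent
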