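/-
Effective descent of invertible modules along fppf morphisms.
-/
import Groth.Agent.L26.InvDescent.Chart
import Groth.Agent.L26.InvDescent.Fun
import Groth.Agent.L22.PicGlue.Cocycle

open CategoryTheory CategoryTheory.Limits AlgebraicGeometry TopologicalSpace Opposite
open CategoryTheory.Pseudofunctor
open Groth.Agent.ThetaCart Groth.Agent.ThetaDescent
open Groth.L18.Frame (rs ro rs_rs rs_self rs_smul ro_ro ro_self ro_mul pull pull_rs pull_smul IsFrame)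
open Groth.L22.PicGlue (Cocycle glueMod gen gen_trans isGen_gen isInvertible_glueMod nonempty_iso_of_gens)

universe u

noncomputable section

namespace Groth.Agent.InvDescent

set_option backward.isDefEq.respectTransparency false
set_option backward.isDefEq.respectTransparency.types false
set_option linter.style.haveILetI false

variable {X : Obj.{u}} {P : Scheme.{u}} {b : X.base ⟶ P} (D : Datum X b) (hX : PicF.IsInvertible (md X))
  [Flat b] [LocallyOfFinitePresentation b]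

variable {D}

/-- The image of a chart. -/
def Chart.N (C : Chart D) : P.Opens := ⟨b '' (C.O : Set X.base), b.isOpenMap _ C.O.2⟩

theorem Chart.le (C : Chart D) : C.O ≤ b ⁻¹ᵁ C.N := fun y hy => ⟨y, hy, rfl⟩

theorem Chart.maps (C : Chart D) {W : Scheme.{u}} (g : W ⟶ C.O.toScheme) (w : W) :
    (g ≫ C.O.ι ≫ b) w ∈ C.N :=
  C.le (g w).2

/-- The transition unit of two charts. -/
def Trans (C C' : Chart D) (c : Γ(P, C.N ⊓ C'.N)ˣ) : Prop :=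
  ∀ (W : Scheme.{u}) (g : W ⟶ C.O.toScheme) (g' : W ⟶ C'.O.toScheme) (hg : g ≫ C.O.ι ≫ b = g' ≫ C'.O.ι ≫ b),
    Cmp D C.Q C'.Q g g' (pb (g ≫ C.O.ι ≫ b) (C.N ⊓ C'.N)
      (fun w _ => ⟨C.maps g w, by rw [hg]; exact C'.maps g' w⟩) c)

/-- The fibre product of two charts. -/
abbrev pairScheme (C C' : Chart D) : Scheme.{u} := pullback (C.O.ι ≫ b) (C'.O.ι ≫ b)

theorem exists_point (C C' : Chart D) (p : P) (hp : p ∈ C.N ⊓ C'.N) :
    ∃ z : pairScheme C C', (pullback.fst _ _ ≫ C.O.ι ≫ b : pairScheme C C' ⟶ P) z = p := by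
  obtain ⟨⟨y, hy, rfl⟩, ⟨y', hy', e⟩⟩ := hp
  obtain ⟨z, hz, -⟩ := Scheme.Pullback.exists_preimage_pullback (f := C.O.ι ≫ b) (g := C'.O.ι ≫ b)
    (⟨y, hy⟩ : C.O.toScheme) (⟨y', hy'⟩ : C'.O.toScheme) e.symm
  exact ⟨z, show (C.O.ι ≫ b) (pullback.fst (C.O.ι ≫ b) (C'.O.ι ≫ b) z) = _ by rw [hz]; rfl⟩

include hX in
theorem exists_trans (C C' : Chart D) : ∃ c, Trans C C' c := by
  haveI := C.cart
  haveI := C'.cart
  let k : pairScheme C C' ⟶ P := pullback.fst _ _ ≫ C.O.ι ≫ b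
  have hk : (⊤ : (pairScheme C C').Opens) ≤ k ⁻¹ᵁ (C.N ⊓ C'.N) := fun w _ =>
    ⟨C.maps _ w, by
      show k w ∈ C'.N
      rw [show k = pullback.snd _ _ ≫ C'.O.ι ≫ b from pullback.condition]
      exact C'.maps _ w⟩
  haveI : Flat k := inferInstance
  haveI : LocallyOfFinitePresentation k := inferInstance
  have hs := exists_point C C'
  obtain ⟨c₀, hc₀⟩ := exists_cmp D hX C.base C'.base (pullback.condition (f := C.O.ι ≫ b) (g := C'.O.ι ≫ b))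
  obtain ⟨c, hc⟩ := exists_unit k _ hk hs c₀ fun W l l' e => by
    have h1 := cmp_comp D hX C.base C'.base pullback.condition hc₀ l
    have h2 := cmp_comp D hX C.base C'.base pullback.condition hc₀ l'
    have q : (l ≫ pullback.fst _ _) ≫ C.O.ι ≫ b = (l' ≫ pullback.fst _ _) ≫ C.O.ι ≫ b := by
      simpa only [k, Category.assoc] using e
    have q' : (l ≫ pullback.snd _ _) ≫ C'.O.ι ≫ b = (l' ≫ pullback.snd _ _) ≫ C'.O.ι ≫ b := by
      rw [Category.assoc, Category.assoc, ← pullback.condition, ← Category.assoc, ← Category.assoc]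
      exact q
    have p1 : (l ≫ pullback.fst _ _) ≫ C.O.ι ≫ b = (l ≫ pullback.snd _ _) ≫ C'.O.ι ≫ b := by
      rw [Category.assoc, Category.assoc, pullback.condition]
    have p2 : (l' ≫ pullback.fst _ _) ≫ C.O.ι ≫ b = (l' ≫ pullback.snd _ _) ≫ C'.O.ι ≫ b := by
      rw [Category.assoc, Category.assoc, pullback.condition]
    have a := cmp_mul D hX C.base C'.base p1 q' h1 (C'.inv _ _ q')
    have a' := cmp_mul D hX C.base C'.base q p2 (C.inv _ _ q) h2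
    simpa using cmp_unique D hX (q.trans p2) a a'
  refine ⟨c, fun W g g' hg => ?_⟩
  let m : W ⟶ pairScheme C C' := pullback.lift g g' hg
  have h := cmp_comp D hX C.base C'.base pullback.condition hc₀ m
  rw [pullback.lift_fst, pullback.lift_snd] at h
  convert h using 1
  refine Units.ext ?_
  show (g ≫ C.O.ι ≫ b).appLE _ ⊤ _ (c : Γ(P, C.N ⊓ C'.N)) = m.appTop (c₀ : Γ(pairScheme C C', ⊤))
  rw [← hc]
  show _ = (k.appLE _ ⊤ hk ≫ m.app ⊤) (c : Γ(P, C.N ⊓ C'.N))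
  rw [Scheme.Hom.app_eq_appLE, Scheme.Hom.appLE_comp_appLE]
  exact (ConcreteCategory.congr_hom (AbDualLib.appLE_hom_congr (show g ≫ C.O.ι ≫ b = m ≫ k by
    simp only [k, m, pullback.lift_fst_assoc]) _) _)

include hX in
theorem trans_self (C : Chart D) {c : Γ(P, C.N ⊓ C.N)ˣ} (hc : Trans C C c) : c = 1 := by
  haveI := C.cart
  have h := cmp_unique D hX rfl (hc C.O.toScheme (𝟙 _) (𝟙 _) rfl) (C.inv (𝟙 _) (𝟙 _) rfl)
  refine Units.ext (fun_injective (C.O.ι ≫ b) (C.N ⊓ C.N) (fun w _ => ⟨C.le w.2, C.le w.2⟩) ?_ ?_)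
  · rintro p ⟨⟨y, hy, rfl⟩, -⟩
    exact ⟨⟨y, hy⟩, rfl⟩
  · rw [Units.val_one, map_one]
    refine Eq.trans ?_ (congrArg Units.val h)
    exact ConcreteCategory.congr_hom (AbDualLib.appLE_hom_congr (Category.id_comp _).symm _) _

theorem pb_ro {Z : Scheme.{u}} (k : Z ⟶ P) {V V' : P.Opens} (h : V' ≤ V) (e : (⊤ : Z.Opens) ≤ k ⁻¹ᵁ V')
    (c : Γ(P, V)) : k.appLE V' ⊤ e (ro h c) = k.appLE V ⊤ (e.trans (k.preimage_mono h)) c := by
  show (P.presheaf.map (homOfLE h).op ≫ k.appLE V' ⊤ e) c = _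
  rw [Scheme.Hom.map_appLE]

include hX in
theorem trans_comp (C₁ C₂ C₃ : Chart D) {c₁₂ : Γ(P, C₁.N ⊓ C₂.N)ˣ} {c₂₃ : Γ(P, C₂.N ⊓ C₃.N)ˣ}
    {c₁₃ : Γ(P, C₁.N ⊓ C₃.N)ˣ} (h₁₂ : Trans C₁ C₂ c₁₂) (h₂₃ : Trans C₂ C₃ c₂₃) (h₁₃ : Trans C₁ C₃ c₁₃)
    {V : P.Opens} (l₁ : V ≤ C₁.N ⊓ C₂.N) (l₂ : V ≤ C₂.N ⊓ C₃.N) (l₃ : V ≤ C₁.N ⊓ C₃.N)
    (hV : C₁.N ⊓ C₂.N ⊓ C₃.N ≤ V) :
    ro l₁ (c₁₂ : Γ(P, C₁.N ⊓ C₂.N)) * ro l₂ (c₂₃ : Γ(P, C₂.N ⊓ C₃.N)) = ro l₃ (c₁₃ : Γ(P, C₁.N ⊓ C₃.N)) := by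
  haveI := C₁.cart
  haveI := C₂.cart
  haveI := C₃.cart
  let k₁₂ : pairScheme C₁ C₂ ⟶ P := pullback.fst _ _ ≫ C₁.O.ι ≫ b
  let g₁ := pullback.fst k₁₂ (C₃.O.ι ≫ b) ≫ pullback.fst (C₁.O.ι ≫ b) (C₂.O.ι ≫ b)
  let g₂ := pullback.fst k₁₂ (C₃.O.ι ≫ b) ≫ pullback.snd (C₁.O.ι ≫ b) (C₂.O.ι ≫ b)
  let g₃ := pullback.snd k₁₂ (C₃.O.ι ≫ b)
  let k : pullback k₁₂ (C₃.O.ι ≫ b) ⟶ P := pullback.fst _ _ ≫ k₁₂
  have e12 : g₁ ≫ C₁.O.ι ≫ b = g₂ ≫ C₂.O.ι ≫ b := by simp only [g₁, g₂, Category.assoc, pullback.condition]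
  have e13 : g₁ ≫ C₁.O.ι ≫ b = g₃ ≫ C₃.O.ι ≫ b := by
    simp only [g₁, g₃, Category.assoc]; exact pullback.condition
  have e23 : g₂ ≫ C₂.O.ι ≫ b = g₃ ≫ C₃.O.ι ≫ b := e12.symm.trans e13
  have hk : k = g₁ ≫ C₁.O.ι ≫ b := by simp only [k, g₁, k₁₂, Category.assoc]
  have hkV : (⊤ : (pullback k₁₂ (C₃.O.ι ≫ b)).Opens) ≤ k ⁻¹ᵁ V := fun w _ => by
    refine hV ⟨⟨?_, ?_⟩, ?_⟩
    · rw [hk]; exact C₁.maps g₁ w
    · rw [hk, e12]; exact C₂.maps g₂ w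
    · rw [hk, e13]; exact C₃.maps g₃ w
  refine fun_injective k V hkV (fun p hp => ?_) ?_
  · obtain ⟨z, hz⟩ := exists_point C₁ C₂ p (l₁ hp)
    obtain ⟨y, hy, hyp⟩ := (l₂ hp).2
    obtain ⟨w, hw, -⟩ := Scheme.Pullback.exists_preimage_pullback (f := k₁₂) (g := C₃.O.ι ≫ b) z
      (⟨y, hy⟩ : C₃.O.toScheme) (hz.trans hyp.symm)
    exact ⟨w, show k₁₂ (pullback.fst k₁₂ (C₃.O.ι ≫ b) w) = p by rw [hw]; exact hz⟩
  · have h := congrArg Units.val (cmp_unique D hX e13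
      (cmp_mul D hX C₁.base C₃.base e12 e23 (h₁₂ _ g₁ g₂ e12) (h₂₃ _ g₂ g₃ e23)) (h₁₃ _ g₁ g₃ e13))
    rw [map_mul, pb_ro, pb_ro, pb_ro]
    refine Eq.trans (congrArg₂ (· * ·) ?_ ?_) (h.trans ?_)
    · exact ConcreteCategory.congr_hom (AbDualLib.appLE_hom_congr hk _) _
    · exact ConcreteCategory.congr_hom (AbDualLib.appLE_hom_congr (hk.trans e12) _) _
    · exact ConcreteCategory.congr_hom (AbDualLib.appLE_hom_congr hk.symm _) _

/-- A section and a trivialisation correspond. -/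
def Corr (C : Chart D) (e : Γ(md X, C.O)) : Prop :=
  ∀ s : Γ(md (res X C.O.ι), C.Q.base ⁻¹ᵁ ⊤), Sec C.Q ⊤ (show Γ(Coh.structureModule P, ⊤) from (1 : Γ(P, ⊤))) s →
    pull C.O.ι (md X) C.O e = rs (md (res X C.O.ι)) (show C.O.ι ⁻¹ᵁ C.O ≤ C.Q.base ⁻¹ᵁ ⊤ from fun _ _ => trivial) s

theorem isFrame_one : IsFrame (Coh.structureModule P) ⊤ (show Γ(Coh.structureModule P, ⊤) from (1 : Γ(P, ⊤))) :=
  fun V h => by
    have : (fun a : Γ(P, V) => a • rs (Coh.structureModule P) h (show Γ(Coh.structureModule P, ⊤) from (1 : Γ(P, ⊤)))) =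
        fun a : Γ(P, V) => (show Γ(Coh.structureModule P, V) from a) := by
      funext a
      show a * P.presheaf.map (homOfLE h).op (1 : Γ(P, ⊤)) = a
      rw [map_one, mul_one]
    rw [this]
    exact Function.bijective_id

theorem isFrame_of_bijective {Y : Scheme.{u}} (U : Y.Opens) (M : Y.Modules) {e : Γ(M, U)}
    (h : IsFrame ((Scheme.Modules.pullback U.ι).obj M) (U.ι ⁻¹ᵁ U) (pull U.ι M U e)) : IsFrame M U e := by
  intro V hV
  haveI : IsIso (U.ι.app V) := U.ι.isIso_app V (by rw [Scheme.Opens.opensRange_ι]; exact hV)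
  have e1 : (pull U.ι M V) ∘ (fun a : Γ(Y, V) => a • rs M hV e) =
      (fun a => a • rs _ (U.ι.preimage_mono hV) (pull U.ι M U e)) ∘ (U.ι.app V) := by
    funext a
    simp only [Function.comp_apply]
    rw [pull_smul, pull_rs]
  have h2 : Function.Bijective ((fun a => a • rs _ (U.ι.preimage_mono hV) (pull U.ι M U e)) ∘ (U.ι.app V)) :=
    (h _ (U.ι.preimage_mono hV)).comp (ConcreteCategory.bijective_of_isIso (U.ι.app V))
  rw [← e1] at h2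
  exact (Function.Bijective.of_comp_iff' (bijective_pull_ι U M hV) _).1 h2

omit [Flat b] [LocallyOfFinitePresentation b] in
theorem exists_corr (C : Chart D) : ∃ e, Corr C e ∧ IsFrame (md X) C.O e := by
  haveI := C.cart
  obtain ⟨s, hs⟩ := exists_sec C.Q ⊤ (show Γ(Coh.structureModule P, ⊤) from (1 : Γ(P, ⊤)))
  obtain ⟨e, he⟩ := (bijective_pull_ι C.O (md X) (le_refl C.O)).2
    (rs (md (res X C.O.ι)) (show C.O.ι ⁻¹ᵁ C.O ≤ C.Q.base ⁻¹ᵁ ⊤ from fun _ _ => trivial) s)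
  refine ⟨e, fun s' hs' => ?_, isFrame_of_bijective C.O (md X) ?_⟩
  · rw [he, (ConcreteCategory.bijective_of_isIso (C.Q.fiber.app (C.Q.base ⁻¹ᵁ ⊤))).1 (hs.trans hs'.symm)]
  · rw [he]
    exact (sec_frame isFrame_one hs).mono _

theorem sec_act {Y Z : Obj.{u}} {a : Γ(Y.base, ⊤)} {f : Y ⟶ Z} {V : Z.base.Opens} {m : Γ(md Z, V)}
    {s : Γ(md Y, f.base ⁻¹ᵁ V)} (h : Sec (act a f) V m s) :
    Sec f V m (ro (le_top : f.base ⁻¹ᵁ V ≤ ⊤) a • s) := by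
  rw [Sec, ← show (act a f).fiber.app (f.base ⁻¹ᵁ V) s = pull f.base (md Z) V m from h]
  show _ = f.fiber.app _ ((Formal.smulModΓ (md Y) a).app _ s)
  rw [Groth.L16.Rees.smulModΓ_app]
  rfl

include hX in
/-- The sections of two charts differ by the transition unit. -/
theorem corr_trans (C C' : Chart D) {c : Γ(P, C.N ⊓ C'.N)ˣ} (hc : Trans C C' c) {e : Γ(md X, C.O)}
    {e' : Γ(md X, C'.O)} (he : Corr C e) (he' : Corr C' e') {W : X.base.Opens} (hW : W ≤ C.O) (hW' : W ≤ C'.O) :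
    rs (md X) hW' e' = b.appLE (C.N ⊓ C'.N) W
      (fun w hw => ⟨C.le (hW hw), C'.le (hW' hw)⟩) (c : Γ(P, C.N ⊓ C'.N)) • rs (md X) hW e := by
  haveI := C.cart
  haveI := C'.cart
  let δ := eps X W.ι
  obtain ⟨γ, hγb, hγ, hγc⟩ := exists_fac (eps X C.O.ι) δ (X.base.homOfLE hW) (X.base.homOfLE_ι hW)
  obtain ⟨γ', hγ'b, hγ', hγ'c⟩ := exists_fac (eps X C'.O.ι) δ (X.base.homOfLE hW') (X.base.homOfLE_ι hW')
  haveI := hγc inferInstance
  haveI := hγ'c inferInstance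
  haveI := isCart_comp γ C.Q
  haveI := isCart_comp γ' C'.Q
  have hg : X.base.homOfLE hW ≫ C.O.ι ≫ b = X.base.homOfLE hW' ≫ C'.O.ι ≫ b := by
    rw [X.base.homOfLE_ι_assoc, X.base.homOfLE_ι_assoc]
  have h := hc W.toScheme _ _ hg _ γ γ' inferInstance inferInstance hγb hγ'b (by
    rw [hγ, hγ']; exact D.refl δ inferInstance)
  obtain ⟨s, hs⟩ := exists_sec C.Q ⊤ (show Γ(Coh.structureModule P, ⊤) from (1 : Γ(P, ⊤)))
  obtain ⟨s', hs'⟩ := exists_sec C'.Q ⊤ (show Γ(Coh.structureModule P, ⊤) from (1 : Γ(P, ⊤)))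
  obtain ⟨t, ht⟩ := exists_sec γ (C.Q.base ⁻¹ᵁ ⊤) s
  obtain ⟨t', ht'⟩ := exists_sec γ' (C'.Q.base ⁻¹ᵁ ⊤) s'
  let a := pb (X.base.homOfLE hW ≫ C.O.ι ≫ b) (C.N ⊓ C'.N)
    (fun w _ => ⟨C.maps _ w, by rw [hg]; exact C'.maps _ w⟩) c
  obtain ⟨r, hr⟩ := exists_sec (γ ≫ C.Q) ⊤ (show Γ(Coh.structureModule P, ⊤) from (1 : Γ(P, ⊤)))
  haveI : IsCart (act (a : Γ(W.toScheme, ⊤)) (γ' ≫ C'.Q)) := isCart_act a.isUnit _
  obtain ⟨r', hr'⟩ := exists_sec (act (a : Γ(W.toScheme, ⊤)) (γ' ≫ C'.Q)) ⊤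
    (show Γ(Coh.structureModule P, ⊤) from (1 : Γ(P, ⊤)))
  have hW2 : W.ι ⁻¹ᵁ W ≤ (γ ≫ C.Q).base ⁻¹ᵁ ⊤ := fun _ _ => trivial
  have hW2' : W.ι ⁻¹ᵁ W ≤ (γ' ≫ C'.Q).base ⁻¹ᵁ ⊤ := fun _ _ => trivial
  have k1 := sec_congr h (sec_comp hs ht) hr' hW2 (fun _ _ => trivial)
  have k2 := sec_congr (f := γ' ≫ C'.Q) rfl (sec_comp hs' ht') (sec_act hr') hW2' hW2'
  rw [rs_smul] at k2
  -- the pulled sections
  have hA : ∀ (O : X.base.Opens) (Q : res X O.ι ⟶ triv P) (g : res X W.ι ⟶ res X O.ι) [IsCart g]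
      (hO : W ≤ O) (hg : g ≫ eps X O.ι = eps X W.ι) (f : Γ(md X, O)) (u : Γ(md (res X O.ι), Q.base ⁻¹ᵁ ⊤))
      (hu : pull O.ι (md X) O f = rs (md (res X O.ι)) (show O.ι ⁻¹ᵁ O ≤ Q.base ⁻¹ᵁ ⊤ from fun _ _ => trivial) u)
      (v : Γ(md (res X W.ι), g.base ⁻¹ᵁ (Q.base ⁻¹ᵁ ⊤))) (hv : Sec g (Q.base ⁻¹ᵁ ⊤) u v),
      pull W.ι (md X) W (rs (md X) hO f) =
        rs (md (res X W.ι)) (show W.ι ⁻¹ᵁ W ≤ g.base ⁻¹ᵁ (Q.base ⁻¹ᵁ ⊤) from fun _ _ => trivial) v := by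
    intro O Q g _ hO hg f u hu v hv
    haveI := isCart_comp g (eps X O.ι)
    have s1 : Sec (eps X O.ι) W (rs (md X) hO f)
        (rs (md (res X O.ι)) ((O.ι.preimage_mono hO).trans (show O.ι ⁻¹ᵁ O ≤ Q.base ⁻¹ᵁ ⊤ from fun _ _ => trivial)) u) := by
      rw [Sec, ← pull_rs, hu, rs_rs]
      rfl
    have s2 := sec_comp s1 (sec_rs _ hv)
    have s3 : Sec (eps X W.ι) W (rs (md X) hO f) (pull W.ι (md X) W (rs (md X) hO f)) := rfl
    have := sec_congr hg s2 s3 (W := W.ι ⁻¹ᵁ W)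
      (fun w hw => show (g ≫ eps X O.ι).base w ∈ W by rw [hg]; exact hw) le_rfl
    rw [rs_rs, rs_self] at this
    exact this.symm
  have p1 := hA C.O C.Q γ hW hγ e s (he s hs) t ht
  have p2 := hA C'.O C'.Q γ' hW' hγ' e' s' (he' s' hs') t' ht'
  refine (bijective_pull_ι W (md X) (le_refl W)).1 ?_
  rw [pull_smul, p2, p1]
  refine k2.trans ?_
  refine congrArg₂ (· • ·) ?_ k1.symm
  rw [ro_ro]
  show (((X.base.homOfLE hW ≫ C.O.ι ≫ b).appLE (C.N ⊓ C'.N) ⊤ _) ≫ W.toScheme.presheaf.map _) _ =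
    (b.appLE (C.N ⊓ C'.N) W _ ≫ W.ι.app W) _
  rw [Scheme.Hom.appLE_map, Scheme.Hom.app_eq_appLE, Scheme.Hom.appLE_comp_appLE]
  exact ConcreteCategory.congr_hom (AbDualLib.appLE_hom_congr (X.base.homOfLE_ι_assoc hW b) _) _

include D hX in
/-- Descent data of invertible modules are effective. -/
theorem exists_descended [Surjective b] :
    ∃ M : P.Modules, PicF.IsInvertible M ∧ Nonempty (md X ≅ (Scheme.Modules.pullback b).obj M) := by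
  choose C hC using exists_chart (D := D) hX
  choose c hc using fun x y => exists_trans hX (C x) (C y)
  let K : Cocycle P :=
    { ι := X.base
      N := fun x => (C x).N
      g := fun x y => (c x y : Γ(P, (C x).N ⊓ (C y).N))
      one := fun x => by
        show ((c x x : Γ(P, (C x).N ⊓ (C x).N)ˣ) : Γ(P, (C x).N ⊓ (C x).N)) = 1
        rw [trans_self hX (C x) (hc x x), Units.val_one]
      comp := fun x y z => trans_comp hX (C x) (C y) (C z) (hc x y) (hc y z) (hc x z) _ _ _ le_rfl }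
  have hcov : ∀ p : P, ∃ x, p ∈ K.N x := fun p => by
    obtain ⟨x, rfl⟩ := b.surjective p
    exact ⟨x, (C x).le (hC x)⟩
  choose e he heF using fun x => exists_corr (C x)
  refine ⟨glueMod K, isInvertible_glueMod K hcov, ?_⟩
  refine nonempty_iso_of_gens (fun x => (C x).O) (e := e)
    (e' := fun x => rs _ (C x).le (pull b (glueMod K) (K.N x) (gen K x))) heF
    (fun x => (IsFrame.pullback b (glueMod K) (isGen_gen K x)).mono (C x).le) (fun x => ⟨x, hC x⟩) ?_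
  intro x y W hx hy z hz
  replace hz : z • rs (md X) hx (e x) = rs (md X) hy (e y) := hz
  show z • rs _ hx (rs _ _ (pull b _ _ (gen K x))) = rs _ hy (rs _ _ (pull b _ _ (gen K y)))
  rw [corr_trans hX (C x) (C y) (hc x y) (he x) (he y) hx hy] at hz
  have hz' := (heF x).inj hx hz
  have hle : W ≤ b ⁻¹ᵁ (K.N x ⊓ K.N y) := fun w hw => ⟨(C x).le (hx hw), (C y).le (hy hw)⟩
  have hg := congrArg (fun m => rs ((Scheme.Modules.pullback b).obj (glueMod K)) hle (pull b (glueMod K) _ m))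
    (gen_trans K x y)
  rw [pull_smul, ← pull_rs, ← pull_rs, rs_smul, rs_rs, rs_rs] at hg
  rw [rs_rs, rs_rs, hz']
  exact hg.symm

end Groth.Agent.InvDescent
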