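/-
The descended module receives a cartesian arrow identifying related arrows.
-/
import Groth.Agent.L26.InvDescent.Effective

open CategoryTheory CategoryTheory.Limits AlgebraicGeometry TopologicalSpace Opposite
open CategoryTheory.Pseudofunctor
open Groth.Agent.ThetaCart Groth.Agent.ThetaDescent
open Groth.L18.Frame (rs ro rs_rs rs_self rs_smul ro_ro ro_self ro_mul pull pull_rs pull_smul IsFrame)
open Groth.L22.PicGlue (Cocycle glueMod gen gen_trans isGen_gen isInvertible_glueMod exists_hom_of_gens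
  sameCoeff_unique SameTrans)

universe u

noncomputable section

namespace Groth.Agent.InvDescent

set_option backward.isDefEq.respectTransparency false
set_option backward.isDefEq.respectTransparency.types false
set_option linter.style.haveILetI false

/-- Modules with generators having the same transition functions are isomorphic compatibly with them. -/
theorem exists_iso_of_gens {X : Scheme.{u}} {ι : Type u} (N : ι → X.Opens) {M M' : X.Modules}
    {e : ∀ i, Γ(M, N i)} {e' : ∀ i, Γ(M', N i)} (he : ∀ i, IsFrame M (N i) (e i))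
    (he' : ∀ i, IsFrame M' (N i) (e' i)) (hcov : ∀ x : X, ∃ i, x ∈ N i) (htr : SameTrans N M M' e e') :
    ∃ φ : M ≅ M', ∀ i, φ.hom.app (N i) (e i) = e' i := by
  have htr' : SameTrans N M' M e' e := fun i j W hi hj c hc => by
    obtain ⟨a, ha⟩ := (he i W hi).2 (rs M hj (e j))
    have : c = a := (he' i W hi).1 (hc.trans (htr i j W hi hj a ha).symm)
    rw [this]
    exact ha
  obtain ⟨φ, hφ⟩ := exists_hom_of_gens N he hcov htr
  obtain ⟨ψ, hψ⟩ := exists_hom_of_gens N he' hcov htr'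
  refine ⟨⟨φ, ψ, ?_, ?_⟩, fun i => ?_⟩
  · refine Scheme.Modules.hom_ext _ _ fun V => ConcreteCategory.hom_ext _ _ fun s => ?_
    show ψ.app V (φ.app V s) = s
    refine sameCoeff_unique N he' hcov (hψ V _) fun i W hV hi c hc => ?_
    obtain ⟨a, ha⟩ := (he i W hi).2 (rs M hV s)
    have : c = a := (he' i W hi).1 (hc.trans (hφ V s i W hV hi a ha).symm)
    rw [this]
    exact ha
  · refine Scheme.Modules.hom_ext _ _ fun V => ConcreteCategory.hom_ext _ _ fun t => ?_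
    show φ.app V (ψ.app V t) = t
    refine sameCoeff_unique N he hcov (hφ V _) fun i W hV hi c hc => ?_
    obtain ⟨a, ha⟩ := (he' i W hi).2 (rs M' hV t)
    have : c = a := (he i W hi).1 (hc.trans (hψ V t i W hV hi a ha).symm)
    rw [this]
    exact ha
  · have h := hφ (N i) (e i) i (N i) le_rfl le_rfl 1 ((one_smul _ _).trans rfl)
    exact ((rs_self _ _ _).symm.trans (h.symm.trans ((one_smul _ _).trans (rs_self _ _ _))))

variable {X : Obj.{u}} {P : Scheme.{u}} {b : X.base ⟶ P} {D : Datum X b} (hX : PicF.IsInvertible (md X))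
  [Flat b] [LocallyOfFinitePresentation b]

include hX in
/-- Sections of two charts pulled back along related arrows differ by the transition unit. -/
theorem rel_trans (C C' : Chart D) {c : Γ(P, C.N ⊓ C'.N)ˣ} (hc : Trans C C' c) {e : Γ(md X, C.O)}
    {e' : Γ(md X, C'.O)} (he : Corr C e) (he' : Corr C' e') {R : Obj.{u}} {l l' : R ⟶ X} [IsCart l] [IsCart l']
    (hR : D.Rel l l') {t : Γ(md R, l.base ⁻¹ᵁ C.O)} (ht : Sec l C.O e t) {t' : Γ(md R, l'.base ⁻¹ᵁ C'.O)}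
    (ht' : Sec l' C'.O e' t') {W : R.base.Opens} (hW : W ≤ l.base ⁻¹ᵁ C.O) (hW' : W ≤ l'.base ⁻¹ᵁ C'.O) :
    rs (md R) hW' t' = (l.base ≫ b).appLE (C.N ⊓ C'.N) W
      (fun w hw => ⟨C.le (hW hw), show (l.base ≫ b) w ∈ C'.N by rw [D.base hR]; exact C'.le (hW' hw)⟩)
      (c : Γ(P, C.N ⊓ C'.N)) • rs (md R) hW t := by
  haveI := C.cart
  haveI := C'.cart
  let δ := eps R W.ι
  have hR' : PicF.IsInvertible (md R) := isInvertible_of_cart hX l
  have hfac : ∀ (O : X.base.Opens) (l : R ⟶ X), W ≤ l.base ⁻¹ᵁ O →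
      ∃ g : W.toScheme ⟶ O.toScheme, g ≫ O.ι = W.ι ≫ l.base := fun O l h =>
    ⟨IsOpenImmersion.lift O.ι (W.ι ≫ l.base) (by
      rw [Scheme.Opens.range_ι]; rintro _ ⟨w, rfl⟩; exact h w.2), IsOpenImmersion.lift_fac _ _ _⟩
  obtain ⟨g, hg⟩ := hfac C.O l hW
  obtain ⟨g', hg'⟩ := hfac C'.O l' hW'
  haveI := isCart_comp δ l
  haveI := isCart_comp δ l'
  obtain ⟨γ, hγb, hγ, hγc⟩ := exists_fac (eps X C.O.ι) (δ ≫ l) g hg
  obtain ⟨γ', hγ'b, hγ', hγ'c⟩ := exists_fac (eps X C'.O.ι) (δ ≫ l') g' hg'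
  haveI := hγc inferInstance
  haveI := hγ'c inferInstance
  haveI := isCart_comp γ C.Q
  haveI := isCart_comp γ' C'.Q
  have hgb : g ≫ C.O.ι ≫ b = g' ≫ C'.O.ι ≫ b := by
    rw [reassoc_of% hg, reassoc_of% hg', D.base hR]
  have h := hc W.toScheme g g' hgb _ γ γ' inferInstance inferInstance hγb hγ'b (by
    rw [hγ, hγ']; exact D.comp δ inferInstance hR)
  obtain ⟨s, hs⟩ := exists_sec C.Q ⊤ (show Γ(Coh.structureModule P, ⊤) from (1 : Γ(P, ⊤)))
  obtain ⟨s', hs'⟩ := exists_sec C'.Q ⊤ (show Γ(Coh.structureModule P, ⊤) from (1 : Γ(P, ⊤)))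
  obtain ⟨v, hv⟩ := exists_sec γ (C.Q.base ⁻¹ᵁ ⊤) s
  obtain ⟨v', hv'⟩ := exists_sec γ' (C'.Q.base ⁻¹ᵁ ⊤) s'
  let a := pb (g ≫ C.O.ι ≫ b) (C.N ⊓ C'.N)
    (fun w _ => ⟨C.maps g w, by rw [hgb]; exact C'.maps g' w⟩) c
  haveI : IsCart (act (a : Γ(W.toScheme, ⊤)) (γ' ≫ C'.Q)) := isCart_act a.isUnit _
  obtain ⟨r', hr'⟩ := exists_sec (act (a : Γ(W.toScheme, ⊤)) (γ' ≫ C'.Q)) ⊤
    (show Γ(Coh.structureModule P, ⊤) from (1 : Γ(P, ⊤)))
  have k1 := sec_congr h (sec_comp hs hv) hr' (W := W.ι ⁻¹ᵁ W) (fun _ _ => trivial) (fun _ _ => trivial)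
  have k2 := sec_congr (f := γ' ≫ C'.Q) rfl (sec_comp hs' hv') (sec_act hr') (W := W.ι ⁻¹ᵁ W)
    (fun _ _ => trivial) (fun _ _ => trivial)
  rw [rs_smul] at k2
  have hA : ∀ (O : X.base.Opens) (Q : res X O.ι ⟶ triv P) (γ : res R W.ι ⟶ res X O.ι) [IsCart γ]
      (l : R ⟶ X) (hl : γ ≫ eps X O.ι = eps R W.ι ≫ l) (hO : W ≤ l.base ⁻¹ᵁ O) (f : Γ(md X, O))
      (u : Γ(md (res X O.ι), Q.base ⁻¹ᵁ ⊤))
      (hu : pull O.ι (md X) O f = rs (md (res X O.ι)) (show O.ι ⁻¹ᵁ O ≤ Q.base ⁻¹ᵁ ⊤ from fun _ _ => trivial) u)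
      (v : Γ(md (res R W.ι), γ.base ⁻¹ᵁ (Q.base ⁻¹ᵁ ⊤))) (hv : Sec γ (Q.base ⁻¹ᵁ ⊤) u v)
      (z : Γ(md R, l.base ⁻¹ᵁ O)) (hz : Sec l O f z),
      pull W.ι (md R) W (rs (md R) hO z) =
        rs (md (res R W.ι)) (show W.ι ⁻¹ᵁ W ≤ γ.base ⁻¹ᵁ (Q.base ⁻¹ᵁ ⊤) from fun _ _ => trivial) v := by
    intro O Q γ _ l hl hO f u hu v hv z hz
    haveI := isCart_comp γ (eps X O.ι)
    have s1 : Sec (eps X O.ι) O f
        (rs (md (res X O.ι)) (show O.ι ⁻¹ᵁ O ≤ Q.base ⁻¹ᵁ ⊤ from fun _ _ => trivial) u) := hu.symm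
    have s2 := sec_comp s1 (sec_rs _ hv)
    have s4 : Sec (eps R W.ι) (l.base ⁻¹ᵁ O) z (pull W.ι (md R) (l.base ⁻¹ᵁ O) z) := rfl
    have := sec_congr hl s2 (sec_comp hz s4) (W := W.ι ⁻¹ᵁ W)
      (fun w hw => show (γ ≫ eps X O.ι).base w ∈ O by rw [hl]; exact hO hw) (W.ι.preimage_mono hO)
    rw [rs_rs, pull_rs] at this
    exact this.symm
  have p1 := hA C.O C.Q γ l hγ hW e s (he s hs) v hv t ht
  have p2 := hA C'.O C'.Q γ' l' hγ' hW' e' s' (he' s' hs') v' hv' t' ht'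
  refine (bijective_pull_ι W (md R) (le_refl W)).1 ?_
  rw [pull_smul, p2, p1]
  refine k2.trans ?_
  refine congrArg₂ (· • ·) ?_ k1.symm
  rw [ro_ro]
  show (((g ≫ C.O.ι ≫ b).appLE (C.N ⊓ C'.N) ⊤ _) ≫ W.toScheme.presheaf.map _) _ =
    ((l.base ≫ b).appLE (C.N ⊓ C'.N) W _ ≫ W.ι.app W) _
  rw [Scheme.Hom.appLE_map, Scheme.Hom.app_eq_appLE, Scheme.Hom.appLE_comp_appLE]
  exact ConcreteCategory.congr_hom (AbDualLib.appLE_hom_congr
    (show g ≫ C.O.ι ≫ b = W.ι ≫ l.base ≫ b by rw [reassoc_of% hg]) _) _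

include D hX in
/-- Descent data of invertible modules are effective, compatibly with the datum. -/
theorem exists_arrow_descended [Surjective b] :
    ∃ (M : P.Modules) (π : X ⟶ (⟨P, M⟩ : Obj.{u})), PicF.IsInvertible M ∧ IsCart π ∧ π.base = b ∧
      ∀ {R : Obj.{u}} (l l' : R ⟶ X), IsCart l → IsCart l' → D.Rel l l' → l ≫ π = l' ≫ π := by
  choose C hC using exists_chart (D := D) hX
  choose c hc using fun x y => exists_trans hX (C x) (C y)
  let K : Cocycle P :=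
    { ι := X.base
      N := fun x => (C x).N
      g := fun x y => (c x y : Γ(P, (C x).N ⊓ (C y).N))
      one := fun x => by
        show ((c x x : Γ(P, (C x).N ⊓ (C x).N)ˣ) : Γ(P, (C x).N ⊓ (C x).N)) = 1
        rw [trans_self hX (C x) (hc x x), Units.val_one]
      comp := fun x y z => trans_comp hX (C x) (C y) (C z) (hc x y) (hc y z) (hc x z) _ _ _ le_rfl }
  have hcov : ∀ p : P, ∃ x, p ∈ K.N x := fun p => by
    obtain ⟨x, rfl⟩ := b.surjective p
    exact ⟨x, (C x).le (hC x)⟩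
  choose e he heF using fun x => exists_corr (C x)
  let M := glueMod K
  let e' : ∀ x, Γ((Scheme.Modules.pullback b).obj M, (C x).O) := fun x => rs _ (C x).le (pull b M (K.N x) (gen K x))
  have he'F : ∀ x, IsFrame _ (C x).O (e' x) := fun x => (IsFrame.pullback b M (isGen_gen K x)).mono (C x).le
  obtain ⟨φ, hφ⟩ := exists_iso_of_gens (fun x => (C x).O) (e := e) (e' := e') heF he'F (fun x => ⟨x, hC x⟩) (by
    intro x y W hx hy z hz
    replace hz : z • rs (md X) hx (e x) = rs (md X) hy (e y) := hz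
    show z • rs _ hx (rs _ _ (pull b _ _ (gen K x))) = rs _ hy (rs _ _ (pull b _ _ (gen K y)))
    rw [corr_trans hX (C x) (C y) (hc x y) (he x) (he y) hx hy] at hz
    have hz' := (heF x).inj hx hz
    have hle : W ≤ b ⁻¹ᵁ (K.N x ⊓ K.N y) := fun w hw => ⟨(C x).le (hx hw), (C y).le (hy hw)⟩
    have hg := congrArg (fun m => rs ((Scheme.Modules.pullback b).obj M) hle (pull b M _ m)) (gen_trans K x y)
    rw [pull_smul, ← pull_rs, ← pull_rs, rs_smul, rs_rs, rs_rs] at hg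
    rw [rs_rs, rs_rs, hz']
    exact hg.symm)
  let π : X ⟶ (⟨P, M⟩ : Obj.{u}) := ⟨b, φ.hom⟩
  haveI hπ : IsCart π := inferInstanceAs (IsIso φ.hom)
  refine ⟨M, π, isInvertible_glueMod K hcov, hπ, rfl, fun {R} l l' hl hl' hR => ?_⟩
  haveI := isCart_comp l π
  haveI := isCart_comp l' π
  obtain ⟨a, ha⟩ := exists_act_eq (isInvertible_of_cart hX l) (l ≫ π) (l' ≫ π) (D.base hR)
  suffices (a : Γ(R.base, ⊤)) = 1 by rw [ha, this, act_one]
  refine R.base.IsSheaf.section_ext fun r _ => ?_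
  let x := l.base r
  let y := l'.base r
  let W := l.base ⁻¹ᵁ (C x).O ⊓ l'.base ⁻¹ᵁ (C y).O
  refine ⟨W, le_top, ⟨hC x, hC y⟩, ?_⟩
  -- pulls of the generators through the charts
  obtain ⟨ux, hux⟩ := exists_sec π (K.N x) (gen K x)
  obtain ⟨uy, huy⟩ := exists_sec π (K.N y) (gen K y)
  have hex : ∀ (z) (u : Γ(md X, b ⁻¹ᵁ K.N z)), Sec π (K.N z) (gen K z) u → rs (md X) (C z).le u = e z := by
    intro z u hu
    refine (ConcreteCategory.bijective_of_isIso (φ.hom.app (C z).O)).1 ?_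
    refine Eq.trans ?_ (hφ z).symm
    refine (congr($(φ.hom.mapPresheaf.naturality (homOfLE (C z).le).op) u)).trans ?_
    show rs _ _ (φ.hom.app _ u) = _
    rw [show φ.hom.app _ u = pull b M (K.N z) (gen K z) from hu]
  obtain ⟨v, hv⟩ := exists_sec l (b ⁻¹ᵁ K.N x) ux
  obtain ⟨v', hv'⟩ := exists_sec l' (b ⁻¹ᵁ K.N y) uy
  have q := sec_rs (C x).le hv
  have q' := sec_rs (C y).le hv'
  rw [hex x ux hux] at q
  rw [hex y uy huy] at q'
  have key := rel_trans hX (C x) (C y) (hc x y) (he x) (he y) hR q q' (inf_le_left : W ≤ _) inf_le_right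
  rw [rs_rs, rs_rs] at key
  -- the same generator along both composites
  obtain ⟨w, hw⟩ := exists_sec (l' ≫ π) (K.N x) (gen K x)
  have hWN : W ≤ (l.base ≫ b) ⁻¹ᵁ (K.N x ⊓ K.N y) := fun p hp =>
    ⟨(C x).le hp.1, show (l.base ≫ b) p ∈ _ by rw [D.base hR]; exact (C y).le hp.2⟩
  have hWN' : W ≤ (l' ≫ π).base ⁻¹ᵁ (K.N x ⊓ K.N y) := by
    rw [show (l' ≫ π).base = l.base ≫ b from (D.base hR).symm]; exact hWN
  have hy1 := sec_rs (inf_le_right : K.N x ⊓ K.N y ≤ _) (sec_comp huy hv')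
  rw [show rs (md (⟨P, M⟩ : Obj.{u})) (inf_le_right : K.N x ⊓ K.N y ≤ _) (gen K y) =
    K.g x y • rs (md (⟨P, M⟩ : Obj.{u})) (inf_le_left : K.N x ⊓ K.N y ≤ _) (gen K x) from gen_trans K x y] at hy1
  have hy2 := sec_smul (sec_rs (inf_le_left : K.N x ⊓ K.N y ≤ _) hw) (K.g x y)
  have h3 := sec_congr rfl hy1 hy2 hWN' hWN'
  rw [rs_rs, rs_smul, rs_rs] at h3
  have hgu : IsUnit ((l.base ≫ b).appLE (K.N x ⊓ K.N y) W hWN (K.g x y)) :=
    (c x y).isUnit.map ((l.base ≫ b).appLE (K.N x ⊓ K.N y) W hWN).hom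
  have h4 : rs (md R) (show W ≤ l.base ⁻¹ᵁ b ⁻¹ᵁ K.N x from fun p hp => (C x).le hp.1) v =
      rs (md R) (show W ≤ (l' ≫ π).base ⁻¹ᵁ K.N x from hWN'.trans ((l' ≫ π).base.preimage_mono inf_le_left)) w := by
    refine hgu.smul_left_cancel.1 (key.symm.trans (h3.trans ?_))
    refine congrArg (· • _) ?_
    exact ConcreteCategory.congr_hom (AbDualLib.appLE_hom_congr (show (l' ≫ π).base = l.base ≫ b from
      (D.base hR).symm) _) _
  haveI : IsCart (act (a : Γ(R.base, ⊤)) (l' ≫ π)) := isCart_act a.isUnit _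
  obtain ⟨w', hw'⟩ := exists_sec (act (a : Γ(R.base, ⊤)) (l' ≫ π)) (K.N x) (gen K x)
  have hWx : W ≤ (l' ≫ π).base ⁻¹ᵁ K.N x := hWN'.trans ((l' ≫ π).base.preimage_mono inf_le_left)
  have h5 := sec_congr ha (sec_comp hux hv) hw' (W := W) (fun p hp => (C x).le hp.1) hWx
  have h6 := sec_congr rfl hw (sec_act hw') hWx hWx
  rw [rs_smul, ro_ro, show rs (md R) hWx w' = rs (md R) hWx w from h5.symm.trans h4] at h6
  have hwF : IsFrame (md R) W (rs (md R) hWx w) := (sec_frame (f := l' ≫ π) (m := gen K x) (isGen_gen K x) hw).mono hWx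
  refine (hwF.inj le_rfl ?_).trans (map_one (R.base.presheaf.map _).hom).symm
  simp only [rs_self, one_smul]
  exact h6.symm

end Groth.Agent.InvDescent
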