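/-
Descent of rigidified invertible modules along fppf coverings of the base.
-/
import Groth.Agent.L26.InvDescent.Descended
import Groth.Agent.L26.AbDual.SplitDescent
import Groth.Prelude.Def_Pic
import Groth.Prelude.Def_AbDual

open CategoryTheory CategoryTheory.Limits AlgebraicGeometry TopologicalSpace Opposite
open CategoryTheory.Pseudofunctor
open Groth.Agent.ThetaCart Groth.Agent.ThetaDescent
open Groth.Agent.InvDescent
open Groth.Agent.AbDualLib (XTmap_fst XTmap_snd XTmap_comp secT_snd secT_XTmap)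

universe u

noncomputable section

namespace Groth.Agent.InvRigid

set_option backward.isDefEq.respectTransparency false
set_option backward.isDefEq.respectTransparency.types false
set_option linter.style.haveILetI false

variable {X S : Scheme.{u}} (f : X ⟶ S) (σ : S ⟶ X) (hσ : σ ≫ f = 𝟙 S) (T : Over S) {U : Scheme.{u}} (u : U ⟶ T.left)

/-- The pair upstairs. -/
abbrev topR (L : (PicF.XT f (AbDual.ovr T u)).Modules) : Obj.{u} := ⟨PicF.XT f (AbDual.ovr T u), L⟩

variable {T u} {L : (PicF.XT f (AbDual.ovr T u)).Modules}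
  (ν : triv U ⟶ topR f T u L) [IsCart ν] (hν : ν.base = PicF.secT f σ hσ (AbDual.ovr T u))
  (ρ : triv U ⟶ triv T.left) [IsCart ρ] (hρ : ρ.base = u)

/-- The two arrows agree along the section. -/
def Norm {M : Obj.{u}} (p₁ p₂ : M ⟶ topR f T u L) : Prop :=
  ∀ (Ω : Obj.{u}) (s : Ω ⟶ M) (γ₁ γ₂ : Ω ⟶ triv U), IsCart s → IsCart γ₁ → IsCart γ₂ →
    s ≫ p₁ = γ₁ ≫ ν → s ≫ p₂ = γ₂ ≫ ν → γ₁ ≫ ρ = γ₂ ≫ ρ

/-- Agreement of the coordinates in `X` and in `T`. -/
def SameBase {R : Scheme.{u}} (a a' : R ⟶ PicF.XT f (AbDual.ovr T u)) : Prop :=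
  a ≫ PicF.XTmap f (AbDual.ovrHom T u) = a' ≫ PicF.XTmap f (AbDual.ovrHom T u)

theorem SameBase.fst {R : Scheme.{u}} {a a' : R ⟶ PicF.XT f (AbDual.ovr T u)} (h : SameBase f a a') :
    a ≫ pullback.fst f (AbDual.ovr T u).hom = a' ≫ pullback.fst f (AbDual.ovr T u).hom := by
  rw [← XTmap_fst f (AbDual.ovrHom T u), ← Category.assoc, show _ = _ from h, Category.assoc]

theorem SameBase.snd {R : Scheme.{u}} {a a' : R ⟶ PicF.XT f (AbDual.ovr T u)} (h : SameBase f a a') :
    (a ≫ pullback.snd f (AbDual.ovr T u).hom) ≫ u = (a' ≫ pullback.snd f (AbDual.ovr T u).hom) ≫ u := by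
  have := congrArg (· ≫ pullback.snd f T.hom) (show _ = _ from h)
  simp only [Category.assoc, XTmap_snd, Over.homMk_left] at this
  simpa only [Category.assoc] using this

variable {f σ hσ} in
include hν in
theorem base_of_eq {Ω M : Obj.{u}} {s : Ω ⟶ M} {p : M ⟶ topR f T u L} {γ : Ω ⟶ triv U} (e : s ≫ p = γ ≫ ν) :
    s.base ≫ p.base = γ.base ≫ PicF.secT f σ hσ (AbDual.ovr T u) := by
  rw [← hν]; exact congrArg CoGrothendieck.Hom.base e

variable {f σ hσ} in
include hν in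
theorem norm_refl {M : Obj.{u}} (p : M ⟶ topR f T u L) : Norm f ν ρ p p := fun Ω s γ₁ γ₂ _ _ _ e₁ e₂ => by
  have h := congrArg (· ≫ pullback.snd f (AbDual.ovr T u).hom) ((base_of_eq ν hν e₁).symm.trans (base_of_eq ν hν e₂))
  simp only [Category.assoc, secT_snd] at h
  have hb : γ₁.base = γ₂.base := (Category.comp_id _).symm.trans (h.trans (Category.comp_id _))
  rw [fac_unique ν hb (e₁.symm.trans e₂)]

variable {f σ hσ} in
include hν in
theorem norm_trans {M : Obj.{u}} {p₁ p₂ p₃ : M ⟶ topR f T u L} [IsCart p₂] (h : SameBase f p₁.base p₂.base)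
    (h₁ : Norm f ν ρ p₁ p₂) (h₂ : Norm f ν ρ p₂ p₃) : Norm f ν ρ p₁ p₃ := fun Ω s γ₁ γ₃ hs hγ₁ hγ₃ e₁ e₃ => by
  haveI := hs
  obtain ⟨γ₂, -, e₂, hc⟩ := exists_fac ν (s ≫ p₂) (s.base ≫ p₂.base ≫ pullback.snd f (AbDual.ovr T u).hom) (by
    show _ = s.base ≫ p₂.base
    rw [hν]
    apply pullback.hom_ext
    · have h0 := congrArg (· ≫ pullback.fst f (AbDual.ovr T u).hom) (base_of_eq ν hν e₁)
      have h0' := congrArg (s.base ≫ ·) (h.fst f)
      have h0'' := congrArg (fun z => z ≫ (AbDual.ovr T u).hom ≫ σ) (congrArg (· ≫ pullback.snd f (AbDual.ovr T u).hom) (base_of_eq ν hν e₁))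
      simp only [Category.assoc, PicF.secT, pullback.lift_fst, pullback.lift_snd_assoc, Category.id_comp] at h0 h0' h0'' ⊢
      rw [← h0', h0]
      refine Eq.trans ?_ (h0''.trans (congrArg (γ₁.base ≫ ·) (Category.id_comp _)))
      show s.base ≫ p₂.base ≫ pullback.snd f (AbDual.ovr T u).hom ≫ (u ≫ T.hom) ≫ σ = _
      have h1 := congrArg (fun z => s.base ≫ z ≫ T.hom ≫ σ) (h.snd f)
      simp only [Category.assoc] at h1 ⊢
      exact h1.symm
    · simp only [Category.assoc, secT_snd]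
      exact congrArg (s.base ≫ ·) (congrArg (p₂.base ≫ ·) (Category.comp_id _)))
  haveI := hc (isCart_comp s p₂)
  exact (h₁ Ω s γ₁ γ₂ hs hγ₁ inferInstance e₁ e₂.symm).trans (h₂ Ω s γ₂ γ₃ hs inferInstance hγ₃ e₂.symm e₃)

theorem norm_comp {M M' : Obj.{u}} (q : M' ⟶ M) [IsCart q] {p₁ p₂ : M ⟶ topR f T u L} (h : Norm f ν ρ p₁ p₂) :
    Norm f ν ρ (q ≫ p₁) (q ≫ p₂) := fun Ω s γ₁ γ₂ hs hγ₁ hγ₂ e₁ e₂ =>
  h Ω (s ≫ q) γ₁ γ₂ (@isCart_comp _ _ _ s q hs ‹_›) hγ₁ hγ₂ (by rw [Category.assoc, e₁]) (by rw [Category.assoc, e₂])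

/-- The canonical pair over a test object. -/
abbrev cano (L : (PicF.XT f (AbDual.ovr T u)).Modules) {V : Over S} (g : V ⟶ AbDual.ovr T u) : Obj.{u} :=
  res (topR f T u L) (PicF.XTmap f g)

/-- A witness that two arrows are identified. -/
def Wit {R : Obj.{u}} (l l' : R ⟶ topR f T u L) : Prop :=
  IsCart l ∧ IsCart l' ∧
  ∃ (V : Over S) (g g' : V ⟶ AbDual.ovr T u) (M : (PicF.XT f V).Modules)
    (p p' : (⟨PicF.XT f V, M⟩ : Obj.{u}) ⟶ topR f T u L) (m : R ⟶ (⟨PicF.XT f V, M⟩ : Obj.{u})),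
    g.left ≫ u = g'.left ≫ u ∧ IsCart p ∧ IsCart p' ∧ IsCart m ∧ p.base = PicF.XTmap f g ∧
    p'.base = PicF.XTmap f g' ∧ Norm f ν ρ p p' ∧ m ≫ p = l ∧ m ≫ p' = l'

variable {f σ hσ} in
theorem sameBase_of {V : Over S} {g g' : V ⟶ AbDual.ovr T u} (h : g.left ≫ u = g'.left ≫ u) :
    SameBase f (PicF.XTmap f g) (PicF.XTmap f g') := by
  show _ ≫ _ = _ ≫ _
  rw [← XTmap_comp, ← XTmap_comp, show g ≫ AbDual.ovrHom T u = g' ≫ AbDual.ovrHom T u from Over.OverMorphism.ext h]

/-- Witnesses in normal form. -/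
theorem exists_normal {R : Obj.{u}} {l l' : R ⟶ topR f T u L} (h : Wit f ν ρ l l') {s : R.base ⟶ S}
    (g : Over.mk s ⟶ AbDual.ovr T u) (hg : g.left = l.base ≫ pullback.snd f (AbDual.ovr T u).hom) :
    ∃ (g' : Over.mk s ⟶ AbDual.ovr T u) (p' : cano f L g ⟶ topR f T u L) (m : R ⟶ cano f L g),
      g.left ≫ u = g'.left ≫ u ∧ g'.left = l'.base ≫ pullback.snd f (AbDual.ovr T u).hom ∧ IsCart p' ∧
      p'.base = PicF.XTmap f g' ∧ IsCart m ∧ m.base ≫ pullback.snd f (Over.mk s).hom = 𝟙 _ ∧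
      Norm f ν ρ (eps (topR f T u L) (PicF.XTmap f g)) p' ∧
      m ≫ eps (topR f T u L) (PicF.XTmap f g) = l ∧ m ≫ p' = l' := by
  obtain ⟨hl, hl', V, g₁, g₂, M, p, p', m, hgg, hpc, hpc', hmc, hpb, hpb', hn, hm, hm'⟩ := h
  have hlb : m.base ≫ PicF.XTmap f g₁ = l.base := by rw [← hpb]; exact congrArg CoGrothendieck.Hom.base hm
  have hl'b : m.base ≫ PicF.XTmap f g₂ = l'.base := by rw [← hpb']; exact congrArg CoGrothendieck.Hom.base hm'
  let qh : R.base ⟶ V.left := m.base ≫ pullback.snd f V.hom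
  have hq1 : qh ≫ g₁.left = g.left := by
    rw [hg, ← hlb, Category.assoc, Category.assoc, XTmap_snd]
  let q : Over.mk s ⟶ V := Over.homMk qh (by
    show qh ≫ V.hom = s
    rw [← Over.w g₁, ← Category.assoc, hq1]
    exact Over.w g)
  have eq1 : q ≫ g₁ = g := Over.OverMorphism.ext hq1
  obtain ⟨e, heb, he, hec⟩ := exists_fac p (eps (topR f T u L) (PicF.XTmap f g)) (PicF.XTmap f q) (by
    rw [hpb, ← XTmap_comp, eq1])
  haveI := hec inferInstance
  haveI := isCart_comp e p'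
  obtain ⟨m₀, hm₀b, hm₀, hm₀c⟩ := exists_fac (eps (topR f T u L) (PicF.XTmap f g)) l
    (pullback.lift (l.base ≫ pullback.fst f (AbDual.ovr T u).hom) (𝟙 R.base) (by
      rw [Category.assoc, pullback.condition, ← Category.assoc, ← hg, Category.id_comp]
      exact Over.w g)) (by
      show _ ≫ PicF.XTmap f g = _
      apply pullback.hom_ext
      · rw [Category.assoc, XTmap_fst, pullback.lift_fst]
      · rw [Category.assoc, XTmap_snd, pullback.lift_snd_assoc, Category.id_comp, hg])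
  refine ⟨q ≫ g₂, e ≫ p', m₀, ?_, ?_, inferInstance, ?_, hm₀c hl, by rw [hm₀b, pullback.lift_snd], ?_, hm₀, ?_⟩
  · rw [Over.comp_left, Category.assoc, ← hgg, ← Category.assoc]
    show g.left ≫ u = (qh ≫ g₁.left) ≫ u
    rw [hq1]
  · show qh ≫ g₂.left = _
    rw [← hl'b, Category.assoc, Category.assoc, XTmap_snd]
  · show e.base ≫ p'.base = _
    rw [heb, hpb', ← XTmap_comp]
  · have := norm_comp f ν ρ e hn
    rwa [he] at this
  · have hme : m₀ ≫ e = m := by
      refine fac_unique p ?_ (by rw [Category.assoc, he, hm₀, hm])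
      show m₀.base ≫ e.base = m.base
      rw [hm₀b, heb]
      apply pullback.hom_ext
      · rw [Category.assoc, XTmap_fst, pullback.lift_fst, ← hlb, Category.assoc, XTmap_fst]
      · rw [Category.assoc, XTmap_snd, pullback.lift_snd_assoc, Category.id_comp]
        rfl
    rw [← Category.assoc, hme, hm']

/-- The structure map of a test arrow. -/
abbrev coord {R : Scheme.{u}} (a : R ⟶ PicF.XT f (AbDual.ovr T u)) :
    Over.mk ((a ≫ pullback.snd f (AbDual.ovr T u).hom) ≫ (AbDual.ovr T u).hom) ⟶ AbDual.ovr T u :=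
  Over.homMk (a ≫ pullback.snd f (AbDual.ovr T u).hom) rfl

variable {f σ hσ} (ha : ∀ (T : Over S) (U : T.left.Opens), IsIso ((PicF.XTproj f T).app U))
  (hL : PicF.IsInvertible L)

include ha in
theorem bijective_proj (V : Over S) : Function.Bijective (PicF.XTproj f V).appTop := by
  haveI := ha V ⊤
  exact ConcreteCategory.bijective_of_isIso ((PicF.XTproj f V).app ⊤)

/-- The canonical arrows along the section. -/
theorem exists_sec_lift {V : Over S} {g : V ⟶ AbDual.ovr T u} {M : (PicF.XT f V).Modules}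
    (p : (⟨PicF.XT f V, M⟩ : Obj.{u}) ⟶ topR f T u L) [IsCart p] (hp : p.base = PicF.XTmap f g)
    (hν : ν.base = PicF.secT f σ hσ (AbDual.ovr T u)) :
    ∃ γ : res (⟨PicF.XT f V, M⟩ : Obj.{u}) (PicF.secT f σ hσ V) ⟶ triv U, IsCart γ ∧ γ.base = g.left ∧
      eps _ (PicF.secT f σ hσ V) ≫ p = γ ≫ ν := by
  haveI := isCart_comp (eps (⟨PicF.XT f V, M⟩ : Obj.{u}) (PicF.secT f σ hσ V)) p
  obtain ⟨γ, hγb, hγ, hγc⟩ := exists_fac ν (eps _ (PicF.secT f σ hσ V) ≫ p) g.left (by
    show g.left ≫ ν.base = PicF.secT f σ hσ V ≫ p.base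
    rw [hν, hp, secT_XTmap])
  exact ⟨γ, hγc inferInstance, hγb, hγ.symm⟩

include hν hρ hL ha in
/-- Normalised partners exist. -/
theorem exists_norm {V : Over S} {g g' : V ⟶ AbDual.ovr T u} (hg : g.left ≫ u = g'.left ≫ u)
    (hcl : PicF.pullCl (PicF.XTmap f g) (PicF.cl L) = PicF.pullCl (PicF.XTmap f g') (PicF.cl L)) :
    ∃ p' : cano f L g ⟶ topR f T u L, IsCart p' ∧ p'.base = PicF.XTmap f g' ∧
      Norm f ν ρ (eps (topR f T u L) (PicF.XTmap f g)) p' := by
  obtain ⟨φ⟩ := (PicGrp.cl_eq_cl_iff ((Scheme.Modules.pullback (PicF.XTmap f g)).obj L)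
    ((Scheme.Modules.pullback (PicF.XTmap f g')).obj L)).1 hcl
  let p₀ : cano f L g ⟶ topR f T u L := ⟨PicF.XTmap f g', φ.hom⟩
  haveI : IsCart p₀ := inferInstanceAs (IsIso φ.hom)
  obtain ⟨γ₁, hγ₁c, hγ₁b, hγ₁⟩ := exists_sec_lift (hσ := hσ) ν (eps (topR f T u L) (PicF.XTmap f g)) (g := g) rfl hν
  obtain ⟨γ₂, hγ₂c, hγ₂b, hγ₂⟩ := exists_sec_lift (hσ := hσ) ν p₀ (g := g') rfl hν
  haveI := isCart_comp γ₁ ρ
  haveI := isCart_comp γ₂ ρ
  have hM : PicF.IsInvertible (md (res (cano f L g) (PicF.secT f σ hσ V))) :=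
    isInvertible_res (isInvertible_res (X := topR f T u L) hL _) _
  obtain ⟨c, hc⟩ := exists_act_eq hM (γ₁ ≫ ρ) (γ₂ ≫ ρ) (by
    show γ₁.base ≫ ρ.base = γ₂.base ≫ ρ.base
    rw [hρ, hγ₁b, hγ₂b, hg])
  let a : Γ(PicF.XT f V, ⊤) := (PicF.XTproj f V).appTop (c : Γ(V.left, ⊤))
  have hau : IsUnit a := c.isUnit.map (PicF.XTproj f V).appTop.hom
  have hsa : (PicF.secT f σ hσ V).appTop a = (c : Γ(V.left, ⊤)) := by
    show ((PicF.XTproj f V).appTop ≫ (PicF.secT f σ hσ V).appTop) _ = _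
    rw [← Scheme.Hom.comp_appTop, show PicF.secT f σ hσ V ≫ PicF.XTproj f V = 𝟙 _ from secT_snd f σ hσ V,
      Scheme.Hom.id_appTop]
    rfl
  haveI : IsCart (act a p₀) := isCart_act hau p₀
  refine ⟨act a p₀, inferInstance, rfl, fun Ω s δ₁ δ₂ hs hδ₁ hδ₂ e₁ e₂ => ?_⟩
  have hb := base_of_eq ν hν e₁
  obtain ⟨m, hmb, hm, -⟩ := exists_fac (eps (cano f L g) (PicF.secT f σ hσ V)) s (s.base ≫ pullback.snd f V.hom) (by
    show _ ≫ PicF.secT f σ hσ V = s.base
    apply pullback.hom_ext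
    · have h1 := congrArg (· ≫ pullback.fst f (AbDual.ovr T u).hom) hb
      have h2 := congrArg (fun z => z ≫ pullback.snd f (AbDual.ovr T u).hom ≫ (AbDual.ovr T u).hom ≫ σ) hb
      simp only [Category.assoc, PicF.secT, pullback.lift_fst, pullback.lift_snd_assoc, Category.id_comp] at h1 h2 ⊢
      rw [XTmap_fst] at h1
      rw [h1]
      refine Eq.trans ?_ (h2.trans (congrArg (δ₁.base ≫ ·) (Category.id_comp _)))
      rw [reassoc_of% (XTmap_snd f g), Over.w_assoc]
    · simp only [Category.assoc, secT_snd]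
      exact congrArg (s.base ≫ ·) (Category.comp_id _))
  have k1 : δ₁ = m ≫ γ₁ := by
    refine fac_unique ν ?_ (by rw [← e₁, ← hm, Category.assoc, hγ₁, Category.assoc])
    show δ₁.base = m.base ≫ γ₁.base
    have h1 := congrArg (· ≫ pullback.snd f (AbDual.ovr T u).hom) hb
    simp only [Category.assoc, secT_snd] at h1
    rw [XTmap_snd] at h1
    rw [hmb, hγ₁b, Category.assoc]
    exact (Category.comp_id _).symm.trans h1.symm
  have k2 : δ₂ = act (m.base.appTop (c : Γ(V.left, ⊤))) (m ≫ γ₂) := by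
    refine fac_unique ν ?_ ?_
    · show δ₂.base = m.base ≫ γ₂.base
      have h1 := congrArg (· ≫ pullback.snd f (AbDual.ovr T u).hom) (base_of_eq ν hν e₂)
      simp only [Category.assoc, secT_snd] at h1
      simp only [act_base] at h1
      rw [show p₀.base = PicF.XTmap f g' from rfl, XTmap_snd] at h1
      rw [hmb, hγ₂b, Category.assoc]
      exact (Category.comp_id _).symm.trans h1.symm
    · rw [← e₂, ← hm, Category.assoc, comp_act (eps _ _), comp_act, hγ₂, act_comp, Category.assoc, ← hsa]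
  rw [k1, k2, act_comp, Category.assoc, Category.assoc, hc, comp_act]

include hν hρ hL ha in
/-- Normalised partners are unique. -/
theorem norm_unique {V : Over S} {g g' : V ⟶ AbDual.ovr T u} {p p' : cano f L g ⟶ topR f T u L} [IsCart p] [IsCart p']
    (hp : p.base = PicF.XTmap f g') (hp' : p'.base = PicF.XTmap f g')
    (h : Norm f ν ρ (eps (topR f T u L) (PicF.XTmap f g)) p)
    (h' : Norm f ν ρ (eps (topR f T u L) (PicF.XTmap f g)) p') : p = p' := by
  have hM : PicF.IsInvertible (md (cano f L g)) := isInvertible_res (X := topR f T u L) hL _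
  obtain ⟨c, hc⟩ := exists_act_eq hM p p' (hp.trans hp'.symm)
  obtain ⟨c₀, hc₀⟩ := (bijective_proj ha V).2 (c : Γ(PicF.XT f V, ⊤))
  have hsc : (PicF.secT f σ hσ V).appTop (c : Γ(PicF.XT f V, ⊤)) = c₀ := by
    rw [← hc₀]
    show ((PicF.XTproj f V).appTop ≫ (PicF.secT f σ hσ V).appTop) c₀ = c₀
    rw [← Scheme.Hom.comp_appTop, show PicF.secT f σ hσ V ≫ PicF.XTproj f V = 𝟙 _ from secT_snd f σ hσ V,
      Scheme.Hom.id_appTop]
    rfl
  obtain ⟨γ₁, hγ₁c, -, hγ₁⟩ := exists_sec_lift (hσ := hσ) ν (eps (topR f T u L) (PicF.XTmap f g)) (g := g) rfl hν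
  obtain ⟨γ, hγc, hγb, hγ⟩ := exists_sec_lift (hσ := hσ) ν p hp hν
  obtain ⟨γ', hγ'c, hγ'b, hγ'⟩ := exists_sec_lift (hσ := hσ) ν p' hp' hν
  haveI := isCart_comp γ' ρ
  have e1 : γ = act c₀ γ' := by
    refine fac_unique ν (hγb.trans hγ'b.symm) ?_
    rw [← hγ, hc, comp_act, hγ', act_comp, ← hsc]
  have e2 : act c₀ (γ' ≫ ρ) = act 1 (γ' ≫ ρ) := by
    rw [act_one, ← act_comp, ← e1]
    exact (h _ _ γ₁ γ inferInstance hγ₁c hγc hγ₁ hγ).symm.trans (h' _ _ γ₁ γ' inferInstance hγ₁c hγ'c hγ₁ hγ')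
  have hc1 : c₀ = 1 := act_inj (isInvertible_res hM _) _ e2
  rw [hc, ← hc₀, hc1, map_one, act_one]

variable (hglue : ∀ (V : Over S) (g g' : V ⟶ AbDual.ovr T u), g.left ≫ u = g'.left ≫ u →
  PicF.pullCl (PicF.XTmap f g) (PicF.cl L) = PicF.pullCl (PicF.XTmap f g') (PicF.cl L))

include hν hρ hL ha hglue in
/-- The descent datum of a rigidified class. -/
theorem exists_datum : ∃ D : Datum (topR f T u L) (PicF.XTmap f (AbDual.ovrHom T u)),
    ∀ (R : Obj.{u}) (l l' : R ⟶ topR f T u L), D.Rel l l' ↔ Wit f ν ρ l l' := by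
  refine ⟨{ Rel := fun l l' => Wit f ν ρ l l', base := ?_, refl := ?_, trans := ?_, comp := ?_,
            unique := ?_, exist := ?_ }, fun R l l' => Iff.rfl⟩
  · rintro R l l' ⟨-, -, V, g, g', M, p, p', m, hg, -, -, -, hp, hp', -, rfl, rfl⟩
    show (m.base ≫ p.base) ≫ _ = (m.base ≫ p'.base) ≫ _
    rw [hp, hp', Category.assoc, Category.assoc]
    exact congrArg (m.base ≫ ·) (sameBase_of hg)
  · intro R l hl
    let g := coord f l.base
    obtain ⟨m, hmb, hm, hmc⟩ := exists_fac (eps (topR f T u L) (PicF.XTmap f g)) l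
      (pullback.lift (l.base ≫ pullback.fst f (AbDual.ovr T u).hom) (𝟙 R.base) (by
        rw [Category.assoc, pullback.condition, Category.id_comp]
        exact (Category.assoc _ _ _).symm)) (by
        show _ ≫ PicF.XTmap f g = _
        apply pullback.hom_ext
        · rw [Category.assoc, XTmap_fst, pullback.lift_fst]
        · rw [Category.assoc, XTmap_snd, pullback.lift_snd_assoc, Category.id_comp]; rfl)
    exact ⟨hl, hl, _, g, g, _, _, _, m, rfl, inferInstance, inferInstance, hmc hl, rfl, rfl,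
      norm_refl ν hν ρ _, hm, hm⟩
  · intro R l l' l'' h₁ h₂
    obtain ⟨g', p', m, hgg, hg', hpc, hpb, hmc, hms, hn, hm, hm'⟩ := exists_normal f ν ρ h₁ (coord f l.base) rfl
    obtain ⟨g'', p'', m', hgg', -, hpc', hpb', hmc', hms', hn', hl2, hl3⟩ := exists_normal f ν ρ h₂ g' hg'
    obtain ⟨e, heb, he, hec⟩ := exists_fac (eps (topR f T u L) (PicF.XTmap f g')) p' (𝟙 _)
      (by rw [Category.id_comp]; exact hpb.symm)
    haveI := hec hpc
    haveI := hpc
    have hme : m ≫ e = m' := by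
      refine fac_unique (eps (topR f T u L) (PicF.XTmap f g')) ?_ (by rw [Category.assoc, he, hm', hl2])
      show m.base ≫ e.base = m'.base
      rw [heb]
      refine (Category.comp_id _).trans (pullback.hom_ext ?_ (hms.trans hms'.symm))
      have k1 := congrArg CoGrothendieck.Hom.base (hm'.trans hl2.symm)
      replace k1 : m.base ≫ p'.base = m'.base ≫ PicF.XTmap f g' := k1
      have k2 := congrArg (· ≫ pullback.fst f (AbDual.ovr T u).hom) k1
      simp only [Category.assoc, hpb, XTmap_fst] at k2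
      exact k2
    refine ⟨h₁.1, h₂.2.1, _, coord f l.base, g'', _, eps (topR f T u L) (PicF.XTmap f (coord f l.base)), e ≫ p'', m,
      hgg.trans hgg', inferInstance, @isCart_comp _ _ _ e p'' ‹_› hpc', hmc, rfl, ?_, ?_, hm, ?_⟩
    · show e.base ≫ p''.base = _
      rw [heb, hpb']; exact Category.id_comp _
    · refine norm_trans ν hν ρ (p₂ := p') ?_ hn ?_
      · rw [hpb]; exact sameBase_of hgg
      · have := norm_comp f ν ρ e hn'
        rwa [he] at this
    · rw [← Category.assoc, hme, hl3]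
  · rintro R R' q l l' hq ⟨hl, hl', V, g, g', M, p, p', m, hg, hpc, hpc', hmc, hp, hp', hn, hm, hm'⟩
    exact ⟨@isCart_comp _ _ _ q l hq hl, @isCart_comp _ _ _ q l' hq hl', V, g, g', M, p, p', q ≫ m, hg, hpc, hpc',
      @isCart_comp _ _ _ q m hq hmc, hp, hp', hn, by rw [Category.assoc, hm], by rw [Category.assoc, hm']⟩
  · intro R l l' l'' h₁ h₂ hb
    obtain ⟨g', p', m, hgg, hg', hpc, hpb, hmc, hms, hn, hm, hm'⟩ := exists_normal f ν ρ h₁ (coord f l.base) rfl
    obtain ⟨g'', p'', m', hgg', hg'', hpc', hpb', hmc', hms', hn', hl2, hl3⟩ :=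
      exists_normal f ν ρ h₂ (coord f l.base) rfl
    obtain rfl : g'' = g' := Over.OverMorphism.ext (hg''.trans (by rw [← hb]; exact hg'.symm))
    rw [norm_unique ν hν ρ hρ ha hL hpb hpb' hn hn'] at hm'
    rw [← hm', ← hl3]
    congr 1
    refine fac_unique (eps (topR f T u L) (PicF.XTmap f (coord f l.base))) ?_ (hm.trans hl2.symm)
    refine pullback.hom_ext ?_ (hms.trans hms'.symm)
    have k2 := congrArg (fun z : R ⟶ topR f T u L => z.base ≫ pullback.fst f (AbDual.ovr T u).hom) (hm.trans hl2.symm)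
    replace k2 : (m.base ≫ PicF.XTmap f (coord f l.base)) ≫ pullback.fst f _ =
      (m'.base ≫ PicF.XTmap f (coord f l.base)) ≫ pullback.fst f _ := k2
    simpa only [Category.assoc, XTmap_fst] using k2
  · intro R l hl a hla
    let g := coord f l.base
    let g' : Over.mk ((l.base ≫ pullback.snd f (AbDual.ovr T u).hom) ≫ (AbDual.ovr T u).hom) ⟶ AbDual.ovr T u :=
      Over.homMk (a ≫ pullback.snd f (AbDual.ovr T u).hom) (by
        show (a ≫ _) ≫ u ≫ T.hom = (l.base ≫ _) ≫ u ≫ T.hom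
        rw [← Category.assoc _ u, ← Category.assoc _ u, SameBase.snd f hla])
    have hgg : g.left ≫ u = g'.left ≫ u := SameBase.snd f hla
    obtain ⟨p', hpc, hpb, hn⟩ := exists_norm ν hν ρ hρ ha hL hgg (hglue _ g g' hgg)
    obtain ⟨m, hmb, hm, hmc⟩ := exists_fac (eps (topR f T u L) (PicF.XTmap f g)) l
      (pullback.lift (l.base ≫ pullback.fst f (AbDual.ovr T u).hom) (𝟙 R.base) (by
        rw [Category.assoc, pullback.condition, Category.id_comp]
        exact (Category.assoc _ _ _).symm)) (by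
        show _ ≫ PicF.XTmap f g = _
        apply pullback.hom_ext
        · rw [Category.assoc, XTmap_fst, pullback.lift_fst]
        · rw [Category.assoc, XTmap_snd, pullback.lift_snd_assoc, Category.id_comp]; rfl)
    refine ⟨m ≫ p', @isCart_comp _ _ _ m p' (hmc hl) hpc, ?_, hl, @isCart_comp _ _ _ m p' (hmc hl) hpc,
      _, g, g', _, _, p', m, hgg, inferInstance, hpc, hmc hl, rfl, hpb, hn, hm, rfl⟩
    show m.base ≫ p'.base = a
    rw [hmb, hpb]
    apply pullback.hom_ext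
    · rw [Category.assoc, XTmap_fst, pullback.lift_fst, SameBase.fst f hla]
    · rw [Category.assoc, XTmap_snd, pullback.lift_snd_assoc, Category.id_comp]
      rfl

include hν hρ hL ha hglue in
/-- Rigidified modules descend. -/
theorem exists_descended_rigid [Flat u] [LocallyOfFinitePresentation u] [Surjective u] :
    ∃ M : (PicF.XT f T).Modules, PicF.IsInvertible M ∧
      PicF.pullCl (PicF.secT f σ hσ T) (PicF.cl M) = PicF.cl (Coh.structureModule T.left) ∧
      PicF.pullCl (PicF.XTmap f (AbDual.ovrHom T u)) (PicF.cl M) = PicF.cl L := by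
  obtain ⟨D, hD⟩ := exists_datum ν hν ρ hρ ha hL hglue
  have hP : IsPullback (PicF.XTmap f (AbDual.ovrHom T u)) (pullback.snd f (AbDual.ovr T u).hom)
      (pullback.snd f T.hom) u := by
    refine IsPullback.of_right ?_ (XTmap_snd f (AbDual.ovrHom T u)) (IsPullback.of_hasPullback f T.hom)
    rw [XTmap_fst]
    exact IsPullback.of_hasPullback f (u ≫ T.hom)
  haveI : Flat (PicF.XTmap f (AbDual.ovrHom T u)) := MorphismProperty.of_isPullback (P := @Flat) hP.flip ‹Flat u›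
  haveI : LocallyOfFinitePresentation (PicF.XTmap f (AbDual.ovrHom T u)) :=
    MorphismProperty.of_isPullback (P := @LocallyOfFinitePresentation) hP.flip ‹LocallyOfFinitePresentation u›
  haveI : Surjective (PicF.XTmap f (AbDual.ovrHom T u)) :=
    MorphismProperty.of_isPullback (P := @Surjective) hP.flip ‹Surjective u›
  obtain ⟨M, π, hM, hπc, hπb, hπ⟩ := exists_arrow_descended (D := D) hL
  refine ⟨M, hM, ?_, ?_⟩
  · let κ : (⟨T.left, (Scheme.Modules.pullback (PicF.secT f σ hσ T)).obj M⟩ : Obj.{u}) ⟶ ⟨PicF.XT f T, M⟩ :=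
      ⟨PicF.secT f σ hσ T, 𝟙 _⟩
    haveI : IsCart κ := inferInstanceAs (IsIso (𝟙 ((Scheme.Modules.pullback (PicF.secT f σ hσ T)).obj M)))
    haveI := isCart_comp ν π
    obtain ⟨q, hqb, hqe, hqc⟩ := exists_fac κ (ν ≫ π) u (by
      show u ≫ PicF.secT f σ hσ T = ν.base ≫ π.base
      rw [hν, hπb, secT_XTmap]
      rfl)
    haveI := hqc inferInstance
    refine ((PicGrp.cl_eq_cl_iff _ _).2 (ThetaDescent.nonempty_iso_of_arrows (X := triv U)
      (Groth.L18.Ample.isInvertible_structureModule T.left) (Groth.L18.Ample.isInvertible_pullback _ hM) u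
      inferInstance inferInstance inferInstance ρ q hρ hqb fun R γ₁ γ₂ h₁ h₂ e => ?_)).symm
    have hb : γ₁.base ≫ u = γ₂.base ≫ u := by
      rw [← hρ]; exact congrArg CoGrothendieck.Hom.base e
    refine fac_unique κ (by show γ₁.base ≫ q.base = γ₂.base ≫ q.base; rw [hqb]; exact hb) ?_
    rw [Category.assoc, Category.assoc, hqe, ← Category.assoc, ← Category.assoc]
    haveI := isCart_comp γ₁ ν
    haveI := isCart_comp γ₂ ν
    refine hπ _ _ inferInstance inferInstance ?_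
    have hbase : (γ₁ ≫ ν).base ≫ PicF.XTmap f (AbDual.ovrHom T u) =
        (γ₂ ≫ ν).base ≫ PicF.XTmap f (AbDual.ovrHom T u) := by
      show (γ₁.base ≫ ν.base) ≫ _ = (γ₂.base ≫ ν.base) ≫ _
      rw [hν, Category.assoc, Category.assoc, secT_XTmap]
      show γ₁.base ≫ u ≫ PicF.secT f σ hσ T = γ₂.base ≫ u ≫ PicF.secT f σ hσ T
      rw [reassoc_of% hb]
    obtain ⟨l'', hl''c, hl''b, hl''⟩ := D.exist (γ₁ ≫ ν) inferInstance (γ₂ ≫ ν).base hbase
    obtain ⟨-, -, V, g, g', M', p, p', m, hg, hpc, hpc', hmc, hp, hp', hn, hm, hm'⟩ := (hD _ _ _).1 hl''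
    obtain ⟨γ₂', hγb, hγ, hγc⟩ := exists_fac ν l'' γ₂.base (by rw [hl''b]; rfl)
    haveI := hγc hl''c
    have key := hn R m γ₁ γ₂' hmc h₁ inferInstance hm (hm'.trans hγ.symm)
    have e2 : γ₂' = γ₂ := fac_unique ρ hγb (key.symm.trans e)
    rw [← hγ, e2] at hl''
    exact hl''
  · obtain ⟨πb, πf⟩ := π
    change πb = _ at hπb
    subst hπb
    haveI : IsIso πf := hπc
    exact (PicGrp.cl_eq_cl_iff _ _).2 ⟨(asIso πf).symm⟩

end Groth.Agent.InvRigid
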