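/-
Modules trivial on a base change along an fppf covering of the base.
-/
import Groth.Agent.L26.InvDescent.Descended
import Groth.Prelude.Def_Pic

open CategoryTheory CategoryTheory.Limits AlgebraicGeometry TopologicalSpace Opposite
open CategoryTheory.Pseudofunctor
open Groth.Agent.ThetaCart Groth.Agent.ThetaDescent
open Groth.Agent.InvDescent

universe u

noncomputable section

namespace Groth.Agent.InvTriv

set_option backward.isDefEq.respectTransparency false
set_option backward.isDefEq.respectTransparency.types false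
set_option linter.style.haveILetI false

variable {X S S' : Scheme.{u}} (f : X ⟶ S) (h : S' ⟶ S) (L : X.Modules)

/-- The pulled back pair. -/
abbrev top' : Obj.{u} := ⟨pullback f h, (Scheme.Modules.pullback (pullback.fst f h)).obj L⟩

/-- Its projection. -/
abbrev proj' : top' f h L ⟶ (⟨X, L⟩ : Obj.{u}) := ⟨pullback.fst f h, 𝟙 _⟩

instance : IsCart (proj' f h L) :=
  inferInstanceAs (IsIso (𝟙 ((Scheme.Modules.pullback (pullback.fst f h)).obj L)))

variable {f h L} (hL : PicF.IsInvertible L) (θ : top' f h L ⟶ triv S') [IsCart θ] (hθ : θ.base = pullback.snd f h)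

/-- Arrows to the trivial pair identified by the module upstairs. -/
def Rel {R : Obj.{u}} (l l' : R ⟶ triv S') : Prop :=
  IsCart l ∧ IsCart l' ∧ l.base ≫ h = l'.base ≫ h ∧ ∀ (Ro : Obj.{u}) (ρ : Ro ⟶ R) (a a' : Ro ⟶ top' f h L), IsCart ρ → IsCart a →
    IsCart a' → a ≫ θ = ρ ≫ l → a' ≫ θ = ρ ≫ l' → a.base ≫ pullback.fst f h = a'.base ≫ pullback.fst f h →
      a ≫ proj' f h L = a' ≫ proj' f h L

variable (ha : ∀ (T : Over S) (U : T.left.Opens), IsIso ((PicF.XTproj f T).app U))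

include hθ in
theorem exists_over {R Ro : Obj.{u}} (l : R ⟶ triv S') [IsCart l] (ρ : Ro ⟶ R) [IsCart ρ] (g : Ro.base ⟶ X)
    (hg : g ≫ f = (ρ.base ≫ l.base) ≫ h) :
    ∃ a : Ro ⟶ top' f h L, IsCart a ∧ a.base = pullback.lift g (ρ.base ≫ l.base) hg ∧ a ≫ θ = ρ ≫ l := by
  haveI := isCart_comp ρ l
  obtain ⟨a, hab, hae, hac⟩ := exists_fac θ (ρ ≫ l) (pullback.lift g (ρ.base ≫ l.base) hg) (by
    rw [hθ, pullback.lift_snd]; rfl)
  exact ⟨a, hac inferInstance, hab, hae⟩

theorem isInvertible_triv : PicF.IsInvertible (md (triv S')) := Groth.L18.Ample.isInvertible_structureModule _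

include hθ hL ha in
/-- The descent datum. -/
theorem exists_datum : ∃ D : Datum (triv S') h, ∀ (R : Obj.{u}) (l l' : R ⟶ triv S'),
    D.Rel l l' ↔ Rel θ l l' := by
  have hbase : ∀ {Ro : Obj.{u}} {a : Ro ⟶ top' f h L} {R : Obj.{u}} {l : R ⟶ triv S'} {ρ : Ro ⟶ R},
      a ≫ θ = ρ ≫ l → a.base ≫ pullback.snd f h = ρ.base ≫ l.base := fun {Ro a R l ρ} e => by
    rw [← hθ]; exact congrArg CoGrothendieck.Hom.base e
  have htriv := isInvertible_triv (S' := S')
  -- the universal test object over a pair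
  have univ : ∀ {R : Obj.{u}} (l : R ⟶ triv S') (g : R.base ⟶ S'), IsCart l → l.base ≫ h = g ≫ h →
      ∃ (Ro : Obj.{u}) (ρ : Ro ⟶ R) (a : Ro ⟶ top' f h L), IsCart ρ ∧ IsCart a ∧
        a ≫ θ = ρ ≫ l ∧ Function.Bijective ρ.base.appTop ∧
        (a.base ≫ pullback.fst f h) ≫ f = (ρ.base ≫ g) ≫ h ∧
        ∀ (Ro' : Obj.{u}) (ρ' : Ro' ⟶ R) (a' : Ro' ⟶ top' f h L), IsCart ρ' → IsCart a' → a' ≫ θ = ρ' ≫ l →
          ∃ m : Ro' ⟶ Ro, IsCart m ∧ m ≫ ρ = ρ' ∧ m ≫ a = a' := by
    intro R l g hl hg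
    let T : Over S := Over.mk (l.base ≫ h)
    let Ro : Obj.{u} := ⟨PicF.XT f T, (Scheme.Modules.pullback (pullback.snd f T.hom)).obj (md R)⟩
    let ρ : Ro ⟶ R := ⟨pullback.snd f T.hom, 𝟙 _⟩
    haveI : IsCart ρ := inferInstanceAs (IsIso (𝟙 ((Scheme.Modules.pullback (pullback.snd f T.hom)).obj (md R))))
    have hg' : pullback.fst f T.hom ≫ f = (ρ.base ≫ l.base) ≫ h := pullback.condition.trans (Category.assoc _ _ _).symm
    obtain ⟨a, hac, hab, hae⟩ := exists_over θ hθ l ρ (pullback.fst f T.hom) hg'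
    haveI := ha T ⊤
    refine ⟨Ro, ρ, a, inferInstance, hac, hae, ConcreteCategory.bijective_of_isIso ((PicF.XTproj f T).app ⊤), ?_, ?_⟩
    · rw [hab, pullback.lift_fst, hg', Category.assoc, hg, Category.assoc]
    · intro Ro' ρ' a' hρ' ha' e
      have hb := hbase e
      obtain ⟨m, hmb, hm, hmc⟩ := exists_fac ρ ρ' (pullback.lift (a'.base ≫ pullback.fst f h) ρ'.base (by
        rw [Category.assoc, pullback.condition, ← Category.assoc, hb, Category.assoc]; rfl)) (pullback.lift_snd _ _ _)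
      haveI := hmc hρ'
      refine ⟨m, inferInstance, hm, fac_unique θ ?_ (by rw [Category.assoc, hae, ← Category.assoc, hm, e])⟩
      show m.base ≫ a.base = a'.base
      rw [hmb, hab]
      apply pullback.hom_ext
      · simp
      · rw [Category.assoc, pullback.lift_snd]
        show _ ≫ pullback.snd f T.hom ≫ l.base = _
        rw [pullback.lift_snd_assoc]
        exact hb.symm
  refine ⟨{ Rel := fun l l' => Rel θ l l', base := fun e => e.2.2.1, refl := ?_, trans := ?_, comp := ?_,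
            unique := ?_, exist := ?_ }, fun R l l' => Iff.rfl⟩
  · intro R l hl
    refine ⟨hl, hl, rfl, fun Ro ρ a a' hρ hac hac' e e' hb => ?_⟩
    rw [fac_unique θ (γ := a) (γ' := a') (pullback.hom_ext hb ((hbase e).trans (hbase e').symm)) (e.trans e'.symm)]
  · intro R l l' l'' h1 h2
    refine ⟨h1.1, h2.2.1, h1.2.2.1.trans h2.2.2.1, fun Ro ρ a a'' hρ hac hac'' e e'' hb => ?_⟩
    haveI := h1.2.1
    obtain ⟨b', hb'c, hb'b, hb'e⟩ := exists_over θ hθ l' ρ (a.base ≫ pullback.fst f h) (by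
      rw [Category.assoc, pullback.condition, ← Category.assoc, hbase e, Category.assoc, h1.2.2.1, Category.assoc])
    exact (h1.2.2.2 Ro ρ a b' hρ hac hb'c e hb'e (by rw [hb'b, pullback.lift_fst])).trans
      (h2.2.2.2 Ro ρ b' a'' hρ hb'c hac'' hb'e e'' (by rw [hb'b, pullback.lift_fst, hb]))
  · intro R R' m l l' hm h1
    haveI := h1.1
    haveI := h1.2.1
    refine ⟨isCart_comp m l, isCart_comp m l', by
      show (m.base ≫ l.base) ≫ h = (m.base ≫ l'.base) ≫ h
      rw [Category.assoc, h1.2.2.1, Category.assoc], ?_⟩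
    intro Ro ρ a a' hρ hac hac' e e' hb
    exact h1.2.2.2 Ro (ρ ≫ m) a a' (@isCart_comp _ _ _ ρ m hρ hm) hac hac' (by rw [e, Category.assoc])
      (by rw [e', Category.assoc]) hb
  · intro R l l' l'' h1 h2 hb
    haveI := h1.1
    haveI := h1.2.1
    haveI := h2.2.1
    obtain ⟨Ro, ρ, a, hρ, hac, hae, hbij, hg0, -⟩ := univ l l'.base h1.1 h1.2.2.1
    have hRo : PicF.IsInvertible (md Ro) := isInvertible_of_cart (isInvertible_of_cart htriv l) ρ
    obtain ⟨a', ha'c, ha'b, ha'⟩ := exists_over θ hθ l' ρ (a.base ≫ pullback.fst f h) hg0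
    obtain ⟨a'', ha''c, ha''b, ha''⟩ := exists_over θ hθ l'' ρ (a.base ≫ pullback.fst f h) (by rw [← hb]; exact hg0)
    have e1 := h1.2.2.2 Ro ρ a a' hρ hac ha'c hae ha' (by rw [ha'b, pullback.lift_fst])
    have e2 := h2.2.2.2 Ro ρ a a'' hρ hac ha''c hae ha'' (by rw [ha''b, pullback.lift_fst])
    have e3 : a' = a'' := by
      refine fac_unique (proj' f h L) ?_ (e1.symm.trans e2)
      rw [ha'b, ha''b]
      exact pullback.hom_ext (by simp) (by simp [hb])
    obtain ⟨c, hc⟩ := exists_act_eq (isInvertible_of_cart htriv l) l' l'' hb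
    haveI := isCart_comp ρ l''
    have e4 : act (ρ.base.appTop (c : Γ(R.base, ⊤))) (ρ ≫ l'') = act 1 (ρ ≫ l'') := by
      rw [act_one, ← comp_act, ← hc, ← ha', e3, ha'']
    rw [hc, hbij.1 ((act_inj hRo _ e4).trans (map_one ρ.base.appTop.hom).symm), act_one]
  · intro R l hl g hg
    obtain ⟨Ro, ρ, a, hρ, hac, hae, hbij, hg0, hu⟩ := univ l g hl hg
    have hR : PicF.IsInvertible (md R) := isInvertible_of_cart htriv l
    obtain ⟨φ⟩ := (PicGrp.cl_eq_cl_iff ((Scheme.Modules.pullback l.base).obj (Coh.structureModule S'))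
      ((Scheme.Modules.pullback g).obj (Coh.structureModule S'))).1
      ((AbDualLib.pullCl_oneCl _).trans (AbDualLib.pullCl_oneCl _).symm)
    haveI : IsIso l.fiber := hl
    let l₀ : R ⟶ triv S' := ⟨g, l.fiber ≫ φ.hom⟩
    haveI : IsCart l₀ := inferInstanceAs (IsIso (l.fiber ≫ φ.hom))
    obtain ⟨a₀, ha₀c, ha₀b, ha₀⟩ := exists_over θ hθ l₀ ρ (a.base ≫ pullback.fst f h) hg0
    haveI := isCart_comp a (proj' f h L)
    haveI := isCart_comp a₀ (proj' f h L)
    have hRo : PicF.IsInvertible (md Ro) := isInvertible_of_cart hR ρ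
    obtain ⟨c, hc⟩ := exists_act_eq hRo (a ≫ proj' f h L) (a₀ ≫ proj' f h L) (by
      show a.base ≫ pullback.fst f h = a₀.base ≫ pullback.fst f h
      rw [ha₀b, pullback.lift_fst])
    obtain ⟨c₀, hc₀⟩ := hbij.2 (c : Γ(Ro.base, ⊤))
    obtain ⟨d₀, hd₀⟩ := hbij.2 (↑c⁻¹ : Γ(Ro.base, ⊤))
    have hu₀ : IsUnit c₀ := IsUnit.of_mul_eq_one d₀ (hbij.1 (by rw [map_mul, hc₀, hd₀, Units.mul_inv, map_one]))
    haveI : IsCart (act c₀ l₀) := isCart_act hu₀ _
    refine ⟨act c₀ l₀, inferInstance, rfl, hl, inferInstance, hg, fun Ro' ρ' b b' hρ' hbc hb'c e e' hb => ?_⟩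
    obtain ⟨m, hmc, hmρ, hma⟩ := hu Ro' ρ' b hρ' hbc e
    have h2 : b' = act (m.base.appTop (c : Γ(Ro.base, ⊤))) (m ≫ a₀) := by
      refine fac_unique θ (pullback.hom_ext ?_ ?_) ?_
      · show b'.base ≫ _ = (m.base ≫ a₀.base) ≫ _
        rw [← hb, ← hma, Category.assoc, ha₀b, pullback.lift_fst]
        exact Category.assoc _ _ _
      · show b'.base ≫ _ = (m.base ≫ a₀.base) ≫ _
        rw [hbase e', Category.assoc, hbase ha₀, ← hmρ]
        exact Category.assoc _ _ _
      · rw [e', act_comp, Category.assoc, ha₀, ← Category.assoc, hmρ, comp_act, ← hmρ, ← hc₀]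
        rfl
    rw [h2, act_comp, ← hma, Category.assoc, hc, comp_act, Category.assoc]

include hθ hL ha in
/-- The module comes from the base. -/
theorem exists_descended_base [Flat h] [LocallyOfFinitePresentation h] [Surjective h] :
    ∃ N : S.Modules, PicF.IsInvertible N ∧ Nonempty (L ≅ (Scheme.Modules.pullback f).obj N) := by
  obtain ⟨D, hD⟩ := exists_datum hL θ hθ ha
  obtain ⟨N, π, hN, hπc, hπb, hπ⟩ := exists_arrow_descended (D := D) isInvertible_triv
  let κ : (⟨X, (Scheme.Modules.pullback f).obj N⟩ : Obj.{u}) ⟶ ⟨S, N⟩ := ⟨f, 𝟙 _⟩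
  haveI : IsCart κ := inferInstanceAs (IsIso (𝟙 ((Scheme.Modules.pullback f).obj N)))
  haveI := isCart_comp θ π
  obtain ⟨q, hqb, hqe, hqc⟩ := exists_fac κ (θ ≫ π) (pullback.fst f h) (by
    show _ = θ.base ≫ π.base
    rw [hθ, hπb]; exact pullback.condition)
  haveI := hqc inferInstance
  refine ⟨N, hN, ThetaDescent.nonempty_iso_of_arrows (X := top' f h L) hL
    (Groth.L18.Ample.isInvertible_pullback _ hN) (pullback.fst f h) inferInstance inferInstance inferInstance
    (proj' f h L) q rfl hqb fun R a a' _ _ e => ?_⟩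
  have hb : a.base ≫ pullback.fst f h = a'.base ≫ pullback.fst f h := congrArg CoGrothendieck.Hom.base e
  haveI := isCart_comp a θ
  haveI := isCart_comp a' θ
  have hbase : (a ≫ θ).base ≫ h = (a' ≫ θ).base ≫ h := by
    show (a.base ≫ θ.base) ≫ h = (a'.base ≫ θ.base) ≫ h
    rw [hθ, Category.assoc, Category.assoc, ← pullback.condition, ← Category.assoc, hb, Category.assoc]
  refine fac_unique κ (by show a.base ≫ q.base = a'.base ≫ q.base; rw [hqb, hb]) ?_
  rw [Category.assoc, Category.assoc, hqe, ← Category.assoc, ← Category.assoc]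
  refine hπ (a ≫ θ) (a' ≫ θ) inferInstance inferInstance ?_
  obtain ⟨l'', hl''c, hl''b, hl''⟩ := D.exist (a ≫ θ) inferInstance (a' ≫ θ).base hbase
  haveI := isCart_id R
  obtain ⟨b', hb'c, hb'b, hb'e⟩ := exists_over θ hθ l'' (𝟙 R) (a.base ≫ pullback.fst f h) (by
    show _ = (𝟙 _ ≫ l''.base) ≫ h
    rw [Category.id_comp, hl''b, ← hbase, Category.assoc, pullback.condition]
    show _ = (a.base ≫ θ.base) ≫ h
    rw [hθ, Category.assoc])
  have key := ((hD R _ _).1 hl'').2.2.2 R (𝟙 R) a b' inferInstance inferInstance hb'c (Category.id_comp _).symm hb'e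
    (by rw [hb'b, pullback.lift_fst])
  have e2 : b' = a' := by
    refine fac_unique (proj' f h L) ?_ (key.symm.trans e)
    rw [hb'b]
    apply pullback.hom_ext
    · rw [pullback.lift_fst, hb]
    · rw [pullback.lift_snd, hl''b]
      show 𝟙 _ ≫ a'.base ≫ θ.base = _
      rw [Category.id_comp, hθ]
  rwa [← (Category.id_comp l'' : 𝟙 R ≫ l'' = l''), ← hb'e, e2] at hl''

end Groth.Agent.InvTriv
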